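import Mathlib
import Cfsg.Agent.H27.Clifford
import Cfsg.Agent.H39.IndFun
import Cfsg.Agent.H43.LinearTwist

/-! Averaging over cosets of a normal subgroup, and multiplication by an extension. -/

set_option autoImplicit false

open scoped ComplexConjugate

namespace Cfsg.Agent.H38

variable {G : Type*} [Group G] [Fintype G] (N : Subgroup G) [hN : N.Normal] [Fintype N]

/-- The average of a function over the cosets of `N`. -/
noncomputable def cosetAvg (F : G → ℂ) : G → ℂ :=
  fun g => (Nat.card N : ℂ)⁻¹ * ∑ n : N, F ((n : G) * g)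

/-- Averaging is self-adjoint. -/
theorem classInner_cosetAvg (F β : G → ℂ) :
    Cfsg.classInner (cosetAvg N F) β = Cfsg.classInner F (cosetAvg N β) := by
  simp only [Cfsg.classInner, cosetAvg, map_mul, map_inv₀, Complex.conj_natCast, map_sum,
    Finset.mul_sum, Finset.sum_mul]
  rw [Finset.sum_comm, Finset.sum_comm (γ := G) (s := Finset.univ)]
  conv_lhs => rw [← Equiv.sum_comp (Equiv.inv N)]
  refine Finset.sum_congr rfl fun n _ => ?_
  rw [← Equiv.sum_comp (Equiv.mulLeft (n : G))]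
  refine Finset.sum_congr rfl fun g _ => ?_
  simp only [Equiv.inv_apply, Subgroup.coe_inv, Equiv.coe_mulLeft, inv_mul_cancel_left]
  ring

omit [Fintype G] in
/-- An average of a class function is a class function. -/
theorem isClassFunction_cosetAvg {F : G → ℂ} (hF : Cfsg.IsClassFunction G F) :
    Cfsg.IsClassFunction G (cosetAvg N F) := by
  intro g h
  simp only [cosetAvg]
  congr 1
  refine (Fintype.sum_equiv (MulAut.conjNormal h).toEquiv _ _ fun n => ?_).symm
  rw [← hF ((n : G) * g) h]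
  congr 1
  show h * ((n : G) * g) * h⁻¹ = (MulAut.conjNormal h n : G) * (h * g * h⁻¹)
  rw [MulAut.conjNormal_apply]
  simp [mul_assoc]

omit [Fintype G] in
/-- The average of an irreducible character is a scalar multiple of it. -/
theorem cosetAvg_irr [Finite G] (β : Cfsg.IrrCharacter G) :
    cosetAvg N β.1 = (Cfsg.classInner (fun n : N => β.1 n) (fun _ => 1) / β.1 1) • β.1 := by
  obtain ⟨m, ρ, hρ, e⟩ := β.2
  haveI := hρ
  set T : Module.End ℂ (Fin m → ℂ) := ∑ n : N, ρ n with hT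
  have hTs : T = (LinearMap.trace ℂ _ T / (Module.finrank ℂ (Fin m → ℂ) : ℂ)) •
      (LinearMap.id : (Fin m → ℂ) →ₗ[ℂ] (Fin m → ℂ)) := by
    refine H25.eq_smul_id_of_comm ρ T fun g => ?_
    simp only [hT, ← Module.End.mul_eq_comp, Finset.sum_mul, Finset.mul_sum, ← map_mul]
    refine Fintype.sum_equiv (MulAut.conjNormal g⁻¹).toEquiv _ _ fun n => ?_
    congr 1
    show (n : G) * g = g * (MulAut.conjNormal g⁻¹ n : G)
    rw [MulAut.conjNormal_apply]
    simp [mul_assoc]
  funext g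
  have h1 : β.1 1 = (Module.finrank ℂ (Fin m → ℂ) : ℂ) := by rw [← e, Representation.char_one]
  have h2 : ∑ n : N, β.1 ((n : G) * g) = LinearMap.trace ℂ _ (T * ρ g) := by
    rw [hT, Finset.sum_mul, map_sum, ← e]
    simp [Representation.character]
  have h3 : LinearMap.trace ℂ _ T = ∑ n : N, β.1 n := by
    rw [hT, map_sum, ← e]; rfl
  rw [cosetAvg, h2, hTs, h3, h1, Module.End.mul_eq_comp, LinearMap.smul_comp, LinearMap.id_comp,
    map_smul, smul_eq_mul, Pi.smul_apply, smul_eq_mul, Cfsg.classInner, ← e]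
  simp only [map_one, mul_one]
  rw [← mul_assoc]
  congr 1
  ring

variable {θ : N → ℂ} {χ : G → ℂ}

/-- The induced function of a `G`-invariant irreducible character has norm the index. -/
theorem classInner_indFun_self_invariant (hθ : Cfsg.IsIrrCharacter N θ)
    (hinv : ∀ (g : G) (n : N), θ ⟨g * n * g⁻¹, hN.conj_mem (n : G) n.2 g⟩ = θ n) :
    Cfsg.classInner (Cfsg.indFun N θ) (Cfsg.indFun N θ) = (N.index : ℂ) := by
  have h := H27.card_mul_classInner_indFun (N := N) hθ hθ
  have hall : Nat.card {g : G // H56.twist N θ g = θ} = Nat.card G :=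
    Nat.card_congr (Equiv.subtypeUnivEquiv fun g => funext fun n => hinv g n)
  rw [hall, ← N.card_mul_index, Nat.cast_mul] at h
  exact mul_left_cancel₀ (Nat.cast_ne_zero.mpr Nat.card_pos.ne') h

/-- Multiplication by an extension of `ϑ` maps the constituents over `φ` injectively to
irreducible characters, which are all the constituents over `φ * ϑ`. -/
theorem mul_extension_constituents (φ ϑ : N → ℂ) (hφ : Cfsg.IsIrrCharacter N φ)
    (hφinv : ∀ (g : G) (n : N), φ ⟨g * n * g⁻¹, hN.conj_mem (n : G) n.2 g⟩ = φ n)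
    (hprod : Cfsg.IsIrrCharacter N (φ * ϑ)) (hχ : Cfsg.IsIrrCharacter G χ)
    (hext : ∀ n : N, χ n = ϑ n) :
    (∀ β : Cfsg.IrrCharacter G, Cfsg.classInner (Cfsg.indFun N φ) β.1 ≠ 0 →
        Cfsg.IsIrrCharacter G (β.1 * χ)) ∧
    (∀ β γ : Cfsg.IrrCharacter G, Cfsg.classInner (Cfsg.indFun N φ) β.1 ≠ 0 →
        Cfsg.classInner (Cfsg.indFun N φ) γ.1 ≠ 0 → β.1 * χ = γ.1 * χ → β = γ) ∧
    ∀ ψ : Cfsg.IrrCharacter G, Cfsg.classInner (Cfsg.indFun N (φ * ϑ)) ψ.1 ≠ 0 ↔
      ∃ β : Cfsg.IrrCharacter G, Cfsg.classInner (Cfsg.indFun N φ) β.1 ≠ 0 ∧ β.1 * χ = ψ.1 := by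
  classical
  have hχc := H26.isCharacter_of_irr hχ
  have hΦc : Cfsg.IsCharacter G (Cfsg.indFun N φ) :=
    H25.isCharacter_indFun _ (H26.isCharacter_of_irr hφ)
  obtain ⟨e, he, hΦ⟩ := H26.exists_nat_coeffs hΦc
  have hχcl := H26.isClassFunction_of_isCharacter hχc
  have hΨ : Cfsg.indFun N (φ * ϑ) = Cfsg.indFun N φ * χ := by
    rw [← H39.indFun_mul_classFun N φ χ hχcl]
    congr 1
    funext n
    rw [Pi.mul_apply, hext]
  have hθinv : ∀ (g : G) (n : N),
      (φ * ϑ) ⟨g * n * g⁻¹, hN.conj_mem (n : G) n.2 g⟩ = (φ * ϑ) n := fun g n => by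
    rw [Pi.mul_apply, Pi.mul_apply, hφinv, ← hext, ← hext]
    exact congrArg (φ n * ·) (hχcl n g)
  have hbc : ∀ β : Cfsg.IrrCharacter G, Cfsg.IsCharacter G (β.1 * χ) := fun β =>
    H26.isCharacter_mul (H26.irr_isCharacter β) hχc
  have hmm : ∀ β γ : Cfsg.IrrCharacter G, ∃ k : ℕ,
      Cfsg.classInner (β.1 * χ) (γ.1 * χ) = k ∧ (β = γ → 1 ≤ k) := by
    intro β γ
    obtain ⟨p, hp, hpe⟩ := H26.exists_nat_coeffs (hbc γ)
    obtain ⟨q, hq, hqe⟩ := H26.exists_nat_coeffs (hbc β)
    refine ⟨∑ η, q η * p η, ?_, ?_⟩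
    · rw [H26.classInner_eq_sum _ _ (H26.isClassFunction_of_isCharacter (hbc β))]
      simp only [hp, hq, Complex.conj_natCast]
      push_cast
      rfl
    · rintro rfl
      by_contra hlt
      have hz : ∀ η, q η = 0 := fun η => by
        have hpq : p η = q η := by exact_mod_cast (hp η).symm.trans (hq η)
        have := Finset.single_le_sum (f := fun η => q η * p η) (fun _ _ => Nat.zero_le _)
          (Finset.mem_univ η)
        rw [hpq] at this
        nlinarith
      have h0 := congrFun hqe 1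
      simp only [hz, Nat.cast_zero, zero_smul, Finset.sum_const_zero, Pi.zero_apply, Pi.mul_apply]
        at h0
      exact mul_ne_zero (H26.irr_one_ne_zero β) (H26.irr_one_ne_zero ⟨χ, hχ⟩) h0
  choose k hk hk1 using hmm
  have hsum : ∑ β, ∑ γ, e β * e γ * k β γ = ∑ β, e β * e β := by
    have h1 : Cfsg.classInner (Cfsg.indFun N (φ * ϑ)) (Cfsg.indFun N (φ * ϑ)) =
        ((∑ β, ∑ γ, e β * e γ * k β γ : ℕ) : ℂ) := by
      rw [hΨ, hΦ, Finset.sum_mul, H26.classInner_sum_left]
      push_cast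
      refine Finset.sum_congr rfl fun β _ => ?_
      rw [H26.classInner_sum_right]
      refine Finset.sum_congr rfl fun γ _ => ?_
      rw [smul_mul_assoc, smul_mul_assoc, H26.classInner_smul_left, H26.classInner_smul_right, hk,
        Complex.conj_natCast, mul_assoc]
    have h2 : Cfsg.classInner (Cfsg.indFun N φ) (Cfsg.indFun N φ) = ((∑ β, e β * e β : ℕ) : ℂ) := by
      rw [H26.classInner_eq_sum _ _ (H26.isClassFunction_of_isCharacter hΦc)]
      simp only [he, Complex.conj_natCast]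
      push_cast
      rfl
    rw [classInner_indFun_self_invariant N hprod hθinv] at h1
    rw [classInner_indFun_self_invariant N hφ hφinv] at h2
    exact_mod_cast h1.symm.trans h2
  have hrow : ∀ β, e β * e β ≤ ∑ γ, e β * e γ * k β γ := fun β =>
    (Nat.le_mul_of_pos_right _ (hk1 β β rfl)).trans
      (Finset.single_le_sum (f := fun γ => e β * e γ * k β γ) (fun _ _ => Nat.zero_le _)
        (Finset.mem_univ β))
  have hkey : ∀ β γ, e β ≠ 0 → e γ ≠ 0 → k β γ = if β = γ then 1 else 0 := by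
    intro β γ hβ hγ
    have hβeq := (Finset.sum_eq_sum_iff_of_le (fun β _ => hrow β)).mp hsum.symm β (Finset.mem_univ β)
    rw [← Finset.add_sum_erase _ _ (Finset.mem_univ β)] at hβeq
    have h1 := hk1 β β rfl
    have hk11 : k β β = 1 := by
      by_contra hne
      have : e β * e β * 2 ≤ e β * e β * k β β := Nat.mul_le_mul_left _ (by omega)
      have hpos : 0 < e β * e β := Nat.mul_pos (Nat.pos_of_ne_zero hβ) (Nat.pos_of_ne_zero hβ)
      omega
    split_ifs with h
    · rw [← h, hk11]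
    · rw [hk11, mul_one] at hβeq
      have h3 : ∑ γ ∈ Finset.univ.erase β, e β * e γ * k β γ = 0 := by omega
      have := (Finset.sum_eq_zero_iff_of_nonneg (fun _ _ => Nat.zero_le _)).mp h3 γ
        (Finset.mem_erase.mpr ⟨Ne.symm h, Finset.mem_univ γ⟩)
      simpa [hβ, hγ] using this
  have hne : ∀ β, Cfsg.classInner (Cfsg.indFun N φ) β.1 ≠ 0 ↔ e β ≠ 0 := fun β => by
    rw [he, Nat.cast_ne_zero]
  have hirr : ∀ β, e β ≠ 0 → Cfsg.IsIrrCharacter G (β.1 * χ) := fun β hβ =>
    H26.isIrrCharacter_of_norm_one (hbc β) (by rw [hk, hkey β β hβ hβ, if_pos rfl, Nat.cast_one])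
  have hinj : ∀ β γ, e β ≠ 0 → e γ ≠ 0 → β.1 * χ = γ.1 * χ → β = γ := by
    intro β γ hβ hγ h
    by_contra hne'
    have h1 := hk β γ
    rw [hkey β γ hβ hγ, if_neg hne', ← h, hk β β, hkey β β hβ hβ, if_pos rfl] at h1
    norm_num at h1
  refine ⟨fun β hβ => hirr β ((hne β).mp hβ),
    fun β γ hβ hγ => hinj β γ ((hne β).mp hβ) ((hne γ).mp hγ), fun ψ => ?_⟩
  rw [hΨ, hΦ, Finset.sum_mul, H26.classInner_sum_left]
  simp only [smul_mul_assoc, H26.classInner_smul_left]
  constructor
  · intro h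
    obtain ⟨β, -, hβ⟩ := Finset.exists_ne_zero_of_sum_ne_zero h
    have hβ0 : e β ≠ 0 := fun h0 => hβ (by rw [h0, Nat.cast_zero, zero_mul])
    refine ⟨β, by rw [← hΦ]; exact (hne β).mpr hβ0, ?_⟩
    by_contra hneq
    exact hβ (by rw [H57.irr_inner_ne (hirr β hβ0) ψ.2 hneq, mul_zero])
  · rintro ⟨β, hβ, hβψ⟩
    rw [← hΦ, hne] at hβ
    rw [Finset.sum_eq_single β]
    · rw [hβψ, H57.irr_inner_self ψ.2, mul_one]
      exact Nat.cast_ne_zero.mpr hβ
    · intro γ _ hγβ
      by_cases hγ : e γ = 0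
      · rw [hγ, Nat.cast_zero, zero_mul]
      · rw [H57.irr_inner_ne (hirr γ hγ) ψ.2
          (fun h => hγβ (hinj γ β hγ hβ (h.trans hβψ.symm))), mul_zero]
    · simp

/-- An irreducible character lying over the principal character of `N` is constant on cosets. -/
theorem cosetAvg_eq_self_of_constituent (β : Cfsg.IrrCharacter G)
    (h : Cfsg.classInner (fun n : N => β.1 n) (fun _ => 1) ≠ 0) :
    Cfsg.classInner (fun n : N => β.1 n) (fun _ => 1) / β.1 1 = 1 := by
  classical
  have hd := H26.irr_one_ne_zero β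
  rw [div_eq_one_iff_eq hd]
  set one : Cfsg.IrrCharacter N := H26.oneIrr N
  have hc : Cfsg.IsCharacter N (fun n : N => β.1 n) :=
    H26.isCharacter_comp (H26.irr_isCharacter β) N.subtype
  obtain ⟨m, hm, hme⟩ := H26.exists_nat_coeffs hc
  have h1 : (fun _ : N => (1 : ℂ)) = one.1 := rfl
  rw [h1] at h ⊢
  have honly : ∀ b : Cfsg.IrrCharacter N, b ≠ one → m b = 0 := by
    intro b hb
    by_contra hb0
    obtain ⟨g, hg⟩ := H27.exists_twist_of_constituents (N := N) β.2 one.2 b.2 h
      (by rw [hm]; exact Nat.cast_ne_zero.mpr hb0)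
    exact hb (Subtype.ext hg.symm)
  have := congrFun hme 1
  rw [Finset.sum_apply, Finset.sum_eq_single one (fun b _ hb => by simp [honly b hb])
    (by simp), Pi.smul_apply, smul_eq_mul, ← hm] at this
  simp only [Subgroup.coe_one] at this
  rw [this, show one.1 1 = 1 from rfl, mul_one]

end Cfsg.Agent.H38
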