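import Mathlib

/-! Facts on the dihedral group of order eight and one Diophantine lemma. -/

set_option autoImplicit false

open DihedralGroup

namespace Cfsg.Agent.H38

/-- Sign of the rotation parity. -/
def d8psiFun : DihedralGroup 4 → ℤˣ
  | r i => if i.val % 2 = 0 then 1 else -1
  | sr i => if i.val % 2 = 0 then 1 else -1

/-- Sign distinguishing rotations from reflections. -/
def d8phiFun : DihedralGroup 4 → ℤˣ
  | r _ => 1
  | sr _ => -1

theorem d8psiFun_mul : ∀ x y : DihedralGroup 4, d8psiFun (x * y) = d8psiFun x * d8psiFun y := by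
  decide

theorem d8phiFun_mul : ∀ x y : DihedralGroup 4, d8phiFun (x * y) = d8phiFun x * d8phiFun y := by
  decide

/-- Sign character trivial on rotations of even index. -/
def d8psi : DihedralGroup 4 →* ℤˣ := MonoidHom.mk' d8psiFun d8psiFun_mul

/-- Sign character trivial on all rotations. -/
def d8phi : DihedralGroup 4 →* ℤˣ := MonoidHom.mk' d8phiFun d8phiFun_mul

theorem d8_eq_center : ∀ x : DihedralGroup 4, (∀ y, x * y = y * x) → x = 1 ∨ x = r 2 := by
  decide

theorem d8_r_two_comm : ∀ y : DihedralGroup 4, r 2 * y = y * r 2 := by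
  decide

theorem d8_centralizer : ∀ x : DihedralGroup 4, x * r 1 = r 1 * x → x = 1 ∨ x = r 1 ∨ x = r 2 ∨ x = r 3 := by
  decide

theorem d8_involution : ∀ x : DihedralGroup 4, x ≠ 1 → x * x = 1 → x = r 2 ∨ d8phi x = -1 := by
  decide

/-- The function `(1 + φ) (1 - ψ)`. -/
theorem d8_theta : ∀ x : DihedralGroup 4,
    ((1 + (d8phi x : ℤ)) * (1 - (d8psi x : ℤ))) = if x = r 1 ∨ x = r 3 then 4 else 0 := by
  decide

/-- Norm of `(1 + φ) (1 - ψ)`. -/
theorem d8_theta_norm :
    ∑ x : DihedralGroup 4, ((1 + (d8phi x : ℤ)) * (1 - (d8psi x : ℤ))) ^ 2 = 32 ∧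
    ∑ x : DihedralGroup 4, ((1 + (d8phi x : ℤ)) * (1 - (d8psi x : ℤ))) = 8 := by
  decide

/-- Sum of `(1 + φ)(1 - ψ)` over products of two involutions. -/
theorem d8_pair_sum :
    ∑ x : DihedralGroup 4, ∑ y : DihedralGroup 4,
      (if x ≠ 1 ∧ x * x = 1 ∧ y ≠ 1 ∧ y * y = 1 then
        ((1 + (d8phi (x * y) : ℤ)) * (1 - (d8psi (x * y) : ℤ))) else 0) = 32 := by
  decide

/-- The Diophantine conclusion. -/
theorem d8_diophantine_check : ∀ a : Fin 55, ∀ b : Fin 55,
    let x : ℤ := (a : ℤ) - 27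
    let y : ℤ := (b : ℤ) - 27
    let z : ℤ := -1 - x - y
    let N : ℤ := x * y * z + y * z + x * z + x * y
    let g : ℤ := 256 * (x * y * z) / N
    x % 2 = 1 → y % 2 = 1 → 3 ≤ x.natAbs → 3 ≤ y.natAbs → 3 ≤ z.natAbs →
      N ≠ 0 → 256 * (x * y * z) % N = 0 → g % 16 = 8 → 1 + x ^ 2 + y ^ 2 + z ^ 2 ≤ g →
      g = 168 ∨ g = 360 := by
  decide +kernel

/-- The order equation of the centraliser-`D₈` theorem. -/
theorem d8_diophantine {g x y z : ℤ} (hx : x % 2 = 1) (hy : y % 2 = 1)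
    (hx3 : 3 ≤ x.natAbs) (hy3 : 3 ≤ y.natAbs) (hz3 : 3 ≤ z.natAbs) (hsum : x + y + z = -1)
    (heq : g * (x * y * z + y * z + x * z + x * y) = 256 * (x * y * z))
    (hg : g % 16 = 8) (hb : 1 + x ^ 2 + y ^ 2 + z ^ 2 ≤ g) : g = 168 ∨ g = 360 := by
  set T : ℚ := 1 + 1 / (x : ℚ) + 1 / (y : ℚ) + 1 / (z : ℚ) with hTdef
  have hne : ∀ w : ℤ, 3 ≤ w.natAbs → (w : ℚ) ≠ 0 := fun w hw => by
    exact_mod_cast (show w ≠ 0 by omega)
  have hq : (g : ℚ) * T = 256 := by
    have h : (g : ℚ) * ((x : ℚ) * y * z + y * z + x * z + x * y) = 256 * ((x : ℚ) * y * z) := by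
      exact_mod_cast heq
    have := hne x hx3; have := hne y hy3; have := hne z hz3
    rw [hTdef]; field_simp
    linear_combination h
  have hlow : ∀ w : ℤ, 3 ≤ w.natAbs → (-1 / 3 : ℚ) ≤ 1 / w ∧ (0 < w → 0 < 1 / (w : ℚ)) := by
    intro w hw
    rcases lt_trichotomy w 0 with h | h | h
    · refine ⟨?_, fun hh => absurd hh (by omega)⟩
      have h3 : (w : ℚ) ≤ -3 := by exact_mod_cast (show w ≤ -3 by omega)
      rw [le_div_iff_of_neg (by linarith)]; linarith
    · omega
    · have h0 : (0 : ℚ) < 1 / w := by positivity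
      exact ⟨by linarith, fun _ => h0⟩
  have hS : 1 / 3 < T := by
    have hx' := hlow x hx3; have hy' := hlow y hy3; have hz' := hlow z hz3
    rcases (show 0 < x ∨ 0 < y ∨ 0 < z by omega) with h | h | h
    · linarith [hx'.2 h, hy'.1, hz'.1]
    · linarith [hx'.1, hy'.2 h, hz'.1]
    · linarith [hx'.1, hy'.1, hz'.2 h]
  have hg768 : g < 768 := by
    have hg0 : (0 : ℚ) < g := by
      have : 0 < g := by nlinarith [sq_nonneg x, sq_nonneg y, sq_nonneg z]
      exact_mod_cast this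
    have : (g : ℚ) < 768 := by nlinarith
    exact_mod_cast this
  have hb' : ∀ w : ℤ, w ^ 2 ≤ g → -27 ≤ w ∧ w ≤ 27 := fun w hw => by
    constructor <;> nlinarith
  have hx27 := hb' x (by nlinarith [sq_nonneg y, sq_nonneg z])
  have hy27 := hb' y (by nlinarith [sq_nonneg x, sq_nonneg z])
  have hN : x * y * z + y * z + x * z + x * y ≠ 0 := by
    intro h
    rw [h, mul_zero] at heq
    have := hne x hx3; have := hne y hy3; have := hne z hz3
    have : ((x : ℚ) * y * z) = 0 := by exact_mod_cast (show x * y * z = 0 by omega)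
    simp_all
  have hz : z = -1 - x - y := by omega
  subst hz
  have hgdiv : g = 256 * (x * y * (-1 - x - y)) /
      (x * y * (-1 - x - y) + y * (-1 - x - y) + x * (-1 - x - y) + x * y) :=
    (Int.ediv_eq_of_eq_mul_left hN heq.symm).symm
  have key := d8_diophantine_check ⟨(x + 27).toNat, by omega⟩ ⟨(y + 27).toNat, by omega⟩
  have ha : (((x + 27).toNat : ℕ) : ℤ) - 27 = x := by omega
  have hbb : (((y + 27).toNat : ℕ) : ℤ) - 27 = y := by omega
  simp only [ha, hbb, ← hgdiv] at key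
  exact key hx hy hx3 hy3 hz3 hN (by rw [← heq]; exact Int.mul_emod_left _ _) hg hb

end Cfsg.Agent.H38
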