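import Mathlib
import Cfsg.Prelude.Def_Characters

/-! T.I. subgroups with Frobenius normaliser. -/

set_option autoImplicit false

namespace Cfsg.Agent.H38

variable {G : Type*} [Group G] [Finite G]

/-- A subgroup containing the centralisers of its nontrivial elements is a Hall subgroup of its
normaliser. -/
theorem coprime_card_index_normalizer_of_centralizer_le (K : Subgroup G)
    (hC : ∀ k ∈ K, k ≠ 1 → Subgroup.centralizer ({k} : Set G) ≤ K) :
    (Nat.card K).Coprime (K.subgroupOf (Subgroup.normalizer (K : Set G))).index := by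
  refine Nat.coprime_of_dvd fun p hp hpK hpi => ?_
  haveI : Fact p.Prime := ⟨hp⟩
  set M := K.subgroupOf (Subgroup.normalizer (K : Set G)) with hM
  haveI : M.Normal := Subgroup.normal_in_normalizer
  obtain ⟨P⟩ : Nonempty (Sylow p (Subgroup.normalizer (K : Set G))) := inferInstance
  by_cases hPM : (P : Subgroup (Subgroup.normalizer (K : Set G))) ≤ M
  · exact P.not_dvd_index (hpi.trans (Subgroup.index_dvd_of_le hPM))
  obtain ⟨y, hy, hyM⟩ := Set.not_subset.mp hPM
  letI : MulAction P K := MulAction.compHom _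
    ((Subgroup.normalizerMonoidHom K).comp P.toSubgroup.subtype)
  have hone : (1 : K) ∈ MulAction.fixedPoints P K := fun q => map_one (Subgroup.normalizerMonoidHom K q.1)
  obtain ⟨k, hk, hk1⟩ := P.isPGroup'.exists_fixed_point_of_prime_dvd_card_of_fixed_point K hpK hone
  refine hyM (Subgroup.mem_subgroupOf.mpr (hC k k.2 ?_ (Subgroup.mem_centralizer_singleton_iff.mpr ?_)))
  · exact fun h => hk1 (Subtype.ext h.symm)
  · have h : (((⟨y, hy⟩ : P) • k : K) : G) = k := congrArg Subtype.val (hk ⟨y, hy⟩)
    have h' : (y : G) * k * (y : G)⁻¹ = k := h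
    exact mul_inv_eq_iff_eq_mul.mp h'

/-- Elements of the normaliser outside such a subgroup are not conjugate into it. -/
theorem conj_not_mem_of_centralizer_le (K : Subgroup G)
    (hC : ∀ k ∈ K, k ≠ 1 → Subgroup.centralizer ({k} : Set G) ≤ K)
    (x : G) (hx : x ∈ Subgroup.normalizer (K : Set G)) (hxK : x ∉ K) (g : G) :
    g * x * g⁻¹ ∉ K := by
  intro h
  apply hxK
  set N := Subgroup.normalizer (K : Set G)
  set M := K.subgroupOf N
  haveI : M.Normal := Subgroup.normal_in_normalizer
  have h1 : x ^ Nat.card K = 1 := by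
    have e := congrArg Subtype.val (pow_card_eq_one' (x := (⟨_, h⟩ : K)))
    simp only [SubmonoidClass.coe_pow, OneMemClass.coe_one] at e
    rw [conj_pow] at e
    simpa using e
  have h2 : (((⟨x, hx⟩ : N) : N ⧸ M)) ^ Nat.card K = 1 := by
    rw [← QuotientGroup.mk_pow]
    simp only [SubmonoidClass.mk_pow, h1]
    rfl
  have h3 : (((⟨x, hx⟩ : N) : N ⧸ M)) ^ M.index = 1 := pow_card_eq_one'
  have h4 := pow_gcd_eq_one.mpr ⟨h2, h3⟩
  rw [(coprime_card_index_normalizer_of_centralizer_le K hC).gcd_eq_one, pow_one,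
    QuotientGroup.eq_one_iff] at h4
  exact h4

omit [Finite G] in
/-- Value of the extension by zero at a member of the subgroup. -/
theorem extendByZero_of_mem (H : Subgroup G) (θ : H → ℂ) {x : G} (hx : x ∈ H) :
    Cfsg.extendByZero H θ x = θ ⟨x, hx⟩ :=
  Subtype.val_injective.extend_apply θ 0 (⟨x, hx⟩ : H)

omit [Finite G] in
/-- The extension by zero vanishes off the subgroup. -/
theorem extendByZero_of_not_mem (H : Subgroup G) (θ : H → ℂ) {x : G} (hx : x ∉ H) :
    Cfsg.extendByZero H θ x = 0 :=
  Function.extend_apply' _ _ _ (by rintro ⟨a, rfl⟩; exact hx a.2)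

end Cfsg.Agent.H38
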