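import Mathlib
import Cfsg.Agent.H38.DihedralEight
import Cfsg.Agent.H38.TIInd
import Cfsg.Agent.H38.ClassCoeff
import Cfsg.Agent.H38.Linear
import Cfsg.Agent.S0849

/-! Perfect groups with a dihedral involution centraliser of order eight. -/

set_option autoImplicit false

open scoped ComplexConjugate
open DihedralGroup

namespace Cfsg.Agent.H38

/-- An involution centraliser isomorphic to the dihedral group of order eight. -/
structure D8Data (G : Type*) [Group G] where
  /-- the embedding -/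
  f : DihedralGroup 4 →* G
  inj : Function.Injective f
  range_eq : f.range = Subgroup.centralizer ({f (r 2)} : Set G)

theorem exists_d8Data {G : Type*} [Group G] (t : G) (ht : orderOf t = 2)
    (e : Subgroup.centralizer ({t} : Set G) ≃* DihedralGroup 4) :
    ∃ d : D8Data G, d.f (r 2) = t := by
  set C := Subgroup.centralizer ({t} : Set G) with hC
  set f : DihedralGroup 4 →* G := C.subtype.comp e.symm.toMonoidHom with hf
  have hinj : Function.Injective f := C.subtype_injective.comp e.symm.injective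
  have hrange : f.range = C := by
    rw [hf, MonoidHom.range_comp, MonoidHom.range_eq_top.mpr e.symm.surjective,
      ← MonoidHom.range_eq_map, Subgroup.range_subtype]
  have htC : t ∈ C := Subgroup.mem_centralizer_singleton_iff.mpr rfl
  obtain ⟨x, hx⟩ : t ∈ f.range := hrange ▸ htC
  have hcentral : ∀ y, x * y = y * x := by
    intro y
    apply hinj
    rw [map_mul, map_mul, hx]
    exact (Subgroup.mem_centralizer_singleton_iff.mp (hrange ▸ ⟨y, rfl⟩ : f y ∈ C)).symm
  rcases d8_eq_center x hcentral with rfl | rfl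
  · rw [map_one] at hx
    rw [← hx, orderOf_one] at ht
    omega
  · exact ⟨⟨f, hinj, by rw [hrange, hC, hx]⟩, hx⟩

variable {G : Type*} [Group G] [Fintype G] (d : D8Data G)

theorem D8Data.card_range : Nat.card d.f.range = 8 := by
  rw [← Nat.card_congr (MonoidHom.ofInjective d.inj).toEquiv]
  rw [Nat.card_eq_fintype_card, DihedralGroup.card]

theorem D8Data.mem_range_of_comm {g : G} (h : g * d.f (r 2) = d.f (r 2) * g) : g ∈ d.f.range := by
  rw [d.range_eq, Subgroup.mem_centralizer_singleton_iff]; exact h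

/-- Elements outside the centraliser move the cyclic TI set. -/
theorem D8Data.ti (g : G) (x : G) (hx : x ∈ ({d.f (r 1), d.f (r 3)} : Set G))
    (hgx : g * x * g⁻¹ ∈ ({d.f (r 1), d.f (r 3)} : Set G)) : g ∈ d.f.range := by
  have hsq : ∀ y ∈ ({d.f (r 1), d.f (r 3)} : Set G), y * y = d.f (r 2) := by
    rintro y (rfl | rfl) <;> rw [← map_mul] <;> rfl
  have h1 : g * d.f (r 2) * g⁻¹ = d.f (r 2) := by
    have e : g * (x * x) * g⁻¹ = g * x * g⁻¹ * (g * x * g⁻¹) := by group
    rwa [hsq _ hgx, hsq x hx] at e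
  exact d.mem_range_of_comm (mul_inv_eq_iff_eq_mul.mp h1)

/-- The centraliser of `f (r 1)` is the cyclic subgroup of order four. -/
theorem D8Data.card_centralizer :
    Nat.card (Subgroup.centralizer ({d.f (r 1)} : Set G)) = 4 := by
  have h : Subgroup.centralizer ({d.f (r 1)} : Set G) = Subgroup.zpowers (d.f (r 1)) := by
    refine le_antisymm (fun g hg => ?_) (Subgroup.zpowers_le.mpr
      (Subgroup.mem_centralizer_singleton_iff.mpr rfl))
    have hc := Subgroup.mem_centralizer_singleton_iff.mp hg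
    obtain ⟨x, rfl⟩ : g ∈ d.f.range := d.mem_range_of_comm (by
      rw [show (r 2 : DihedralGroup 4) = r 1 * r 1 from rfl, map_mul]
      rw [← mul_assoc, hc, mul_assoc, hc, ← mul_assoc])
    rw [← map_mul, ← map_mul, d.inj.eq_iff] at hc
    rw [← MonoidHom.map_zpowers]
    refine Subgroup.mem_map_of_mem d.f ?_
    rcases d8_centralizer x hc with rfl | rfl | rfl | rfl
    · exact one_mem _
    · exact Subgroup.mem_zpowers _
    · exact ⟨2, rfl⟩
    · exact ⟨3, rfl⟩
  rw [h, Nat.card_zpowers, orderOf_injective d.f d.inj, DihedralGroup.orderOf_r_one]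

/-- The centraliser is a Sylow 2-subgroup, so its index is odd. -/
theorem D8Data.index_odd : ¬ 2 ∣ d.f.range.index := by
  haveI := Fact.mk Nat.prime_two
  have hD : IsPGroup 2 d.f.range := IsPGroup.of_card (n := 3) (by rw [d.card_range]; rfl)
  obtain ⟨P, hP⟩ := hD.exists_le_sylow
  haveI : Nontrivial P := by
    rw [← Finite.one_lt_card_iff_nontrivial]
    have := Subgroup.card_dvd_of_le hP
    rw [d.card_range] at this
    have := Nat.le_of_dvd Nat.card_pos this
    show 1 < Nat.card (P : Subgroup G)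
    omega
  haveI := P.isPGroup'.center_nontrivial
  obtain ⟨z, hz, hz1⟩ := Subgroup.exists_ne_one_of_nontrivial (Subgroup.center (P : Subgroup G))
  have hzc : ∀ y ∈ (P : Subgroup G), y * (z : G) = z * y := fun y hy =>
    congrArg Subtype.val (Subgroup.mem_center_iff.mp hz ⟨y, hy⟩)
  obtain ⟨x, hx⟩ : (z : G) ∈ d.f.range :=
    d.mem_range_of_comm (hzc _ (hP ⟨r 2, rfl⟩)).symm
  have hx2 : x = r 2 := by
    refine (d8_eq_center x fun y => d.inj ?_).resolve_left fun h => hz1 ?_
    · rw [map_mul, map_mul, hx]; exact (hzc _ (hP ⟨y, rfl⟩)).symm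
    · rw [h, map_one] at hx; exact Subtype.ext hx.symm
  subst hx2
  have hle : (P : Subgroup G) ≤ d.f.range := fun y hy => d.mem_range_of_comm (hx ▸ hzc y hy)
  rw [le_antisymm hP hle]
  exact P.not_dvd_index

/-- In a perfect group every involution of the centraliser is conjugate to the central one. -/
theorem D8Data.isConj_of_perfect (hperf : commutator G = ⊤) (b : DihedralGroup 4) (hb : b * b = 1)
    (hb1 : b ≠ 1) : IsConj (d.f (r 2)) (d.f b) := by
  classical
  by_cases hb2 : b = r 2
  · rw [hb2]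
  by_contra hcon
  set e := MonoidHom.ofInjective d.inj
  set φ : d.f.range →* ℤˣ := d8phi.comp e.symm.toMonoidHom with hφ
  have htr : MonoidHom.transfer φ (d.f b) = 1 := by
    have h1 : commutator G ≤ (MonoidHom.transfer φ).ker := Abelianization.commutator_subset_ker _
    rw [hperf] at h1
    exact h1 (Subgroup.mem_top _)
  set β := d.f b with hβ
  have hβ2 : β ^ 2 = 1 := by rw [sq, hβ, ← map_mul, hb, map_one]
  have hterm : ∀ (g : G) (k : ℕ) (hm : g⁻¹ * β ^ k * g ∈ d.f.range),
      φ ⟨_, hm⟩ = (-1 : ℤˣ) ^ k := by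
    intro g k hm
    have hk : β ^ k = β ^ (k % 2) := by
      conv_lhs => rw [← Nat.div_add_mod k 2, pow_add, pow_mul, hβ2, one_pow, one_mul]
    have hk' : (-1 : ℤˣ) ^ k = (-1 : ℤˣ) ^ (k % 2) := (Int.units_pow_eq_pow_mod_two _ _)
    rcases Nat.mod_two_eq_zero_or_one k with h | h <;> rw [hk', h]
    · rw [pow_zero]
      convert map_one φ
      rw [hk, h, pow_zero, mul_one, inv_mul_cancel, OneMemClass.coe_one]
    · rw [pow_one]
      have hm' := hm
      obtain ⟨x, hx⟩ := hm'
      have hxe : (⟨_, hm⟩ : d.f.range) = e x := Subtype.ext hx.symm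
      rw [hxe, hφ, MonoidHom.comp_apply]
      simp only [MulEquiv.coe_toMonoidHom, MulEquiv.symm_apply_apply]
      rw [hk, h, pow_one] at hx
      have hx2 : x * x = 1 := d.inj (by
        rw [map_mul, hx, map_one]
        simp [mul_assoc, ← mul_assoc β β, ← sq β, hβ2])
      have hx1 : x ≠ 1 := fun hh => hb1 (d.inj (by
        rw [map_one, ← hβ]
        rw [hh, map_one] at hx
        simpa [mul_assoc] using congrArg (fun w => g * w * g⁻¹) hx.symm))
      rcases d8_involution x hx1 hx2 with rfl | h'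
      · exact absurd (isConj_iff.mpr ⟨g, by rw [hx]; simp [mul_assoc]⟩) hcon
      · exact h'
  haveI : d.f.range.FiniteIndex := inferInstance
  letI := Fintype.ofFinite (Quotient (MulAction.orbitRel (Subgroup.zpowers β) (G ⧸ d.f.range)))
  letI := d.f.range.fintypeQuotientOfFiniteIndex
  rw [MonoidHom.transfer_eq_prod_quotient_orbitRel_zpowers_quot,
    Finset.prod_congr rfl (fun q _ => hterm _ _ _), Finset.prod_pow_eq_pow_sum,
    ← Subgroup.index_eq_sum_minimalPeriod, Int.units_pow_eq_pow_mod_two] at htr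
  have := d.index_odd
  rw [show d.f.range.index % 2 = 1 by omega, pow_one] at htr
  exact absurd htr (by decide)

/-- The TI function of the centraliser. -/
noncomputable def D8Data.theta : d.f.range → ℂ := fun x =>
  ((((1 + (d8phi ((MonoidHom.ofInjective d.inj).symm x) : ℤ)) *
    (1 - (d8psi ((MonoidHom.ofInjective d.inj).symm x) : ℤ))) : ℤ) : ℂ)

/-- A sign character as a complex linear character. -/
noncomputable def signUnits : ℤˣ →* ℂˣ := Units.map (Int.castRingHom ℂ).toMonoidHom

theorem D8Data.theta_apply (y : d.f.range) (x : DihedralGroup 4) (hm : d.f x = (y : G)) :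
    d.theta y = (((1 + (d8phi x : ℤ)) * (1 - (d8psi x : ℤ)) : ℤ) : ℂ) := by
  rw [D8Data.theta]
  have : (MonoidHom.ofInjective d.inj).symm y = x :=
    (MulEquiv.symm_apply_eq _).mpr (Subtype.ext hm.symm)
  rw [this]

theorem D8Data.sum_theta (F : ℂ → ℂ) [Fintype d.f.range] :
    ∑ y : d.f.range, F (d.theta y) =
      ∑ x : DihedralGroup 4, F (((1 + (d8phi x : ℤ)) * (1 - (d8psi x : ℤ)) : ℤ) : ℂ) :=
  (Fintype.sum_equiv (MonoidHom.ofInjective d.inj).toEquiv _ _ fun x => by
    rw [d.theta_apply _ x rfl]).symm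

theorem D8Data.theta_support (y : d.f.range) (hy : (y : G) ∉ ({d.f (r 1), d.f (r 3)} : Set G)) :
    d.theta y = 0 := by
  obtain ⟨x, hx⟩ := y.2
  rw [d.theta_apply y x hx, d8_theta, if_neg, Int.cast_zero]
  rintro (rfl | rfl)
  · exact hy (Or.inl hx.symm)
  · exact hy (Or.inr hx.symm)

omit [Fintype G] in
theorem D8Data.sum_range {β : Type*} [AddCommMonoid β] [Fintype d.f.range] (F : d.f.range → β) :
    ∑ y, F y = ∑ x : DihedralGroup 4, F ⟨d.f x, ⟨x, rfl⟩⟩ :=
  (Fintype.sum_equiv (MonoidHom.ofInjective d.inj).toEquiv _ _ fun _ => rfl).symm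

/-- The exceptional generalised character. -/
theorem D8Data.exists_Theta :
    ∃ Θ : G → ℂ, Cfsg.IsGeneralizedCharacter G Θ ∧ Θ = Cfsg.indFun d.f.range d.theta ∧
      Cfsg.IsClassFunction d.f.range d.theta ∧ Θ 1 = 0 ∧
      Cfsg.classInner Θ (fun _ => 1) = 1 ∧ Cfsg.classInner Θ Θ = 4 ∧
      Θ (d.f (r 1)) = 4 ∧ Θ (d.f (r 2)) = 0 := by
  classical
  set H := d.f.range with hH
  set e := (MonoidHom.ofInjective d.inj).symm.toMonoidHom with he
  set p : H →* ℂˣ := signUnits.comp (d8phi.comp e) with hp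
  set s : H →* ℂˣ := signUnits.comp (d8psi.comp e) with hs
  have hθeq : d.theta =
      ((fun _ => (1 : ℂ)) + fun x => (p x : ℂ)) - ((fun x => (s x : ℂ)) + fun x => ((p * s) x : ℂ)) := by
    funext x
    simp only [D8Data.theta, hp, hs, he, signUnits, Pi.sub_apply, Pi.add_apply, MonoidHom.mul_apply,
      MonoidHom.comp_apply, Units.val_mul]
    simp
    ring
  have hch : ∀ q : H →* ℂˣ, Cfsg.IsCharacter H (fun x => (q x : ℂ)) := fun q => (linear_of_hom q).1
  have h1c : Cfsg.IsCharacter H (fun _ => (1 : ℂ)) := H26.isCharacter_of_irr isIrr_one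
  have hcl : Cfsg.IsClassFunction H d.theta := by
    rw [hθeq]
    exact H57.gen_classFunction
      ⟨_, _, H26.isCharacter_add h1c (hch p), H26.isCharacter_add (hch s) (hch (p * s)), rfl⟩
  refine ⟨_, ?_, rfl, hcl, ?_, ?_, ?_, ?_, ?_⟩
  · exact ⟨_, _, H25.isCharacter_indFun _ (H26.isCharacter_add h1c (hch p)),
      H25.isCharacter_indFun _ (H26.isCharacter_add (hch s) (hch (p * s))),
      by rw [hθeq, H25.indFun_sub]⟩
  · rw [H25.indFun_one, d.theta_support 1, mul_zero]
    rw [OneMemClass.coe_one, ← map_one d.f]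
    rintro (h | h) <;> exact absurd (d.inj h) (by decide)
  · rw [H25.classInner_indFun_left H d.theta _ (fun g h => rfl), Cfsg.classInner, d.card_range]
    simp only [map_one, mul_one]
    rw [d.sum_theta (fun w => w), ← Int.cast_sum, d8_theta_norm.2]
    norm_num
  · rw [classInner_indFun_ti H _ d.ti d.theta d.theta hcl d.theta_support d.theta_support,
      Cfsg.classInner, d.card_range, d.sum_theta (fun w => w * conj w)]
    simp only [map_intCast, ← Int.cast_mul, ← pow_two, ← Int.cast_pow, ← Int.cast_sum]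
    rw [d8_theta_norm.1]
    norm_num
  · rw [indFun_eq_on_support H _ d.ti d.theta hcl d.theta_support ⟨_, ⟨r 1, rfl⟩⟩ (Or.inl rfl),
      d.theta_apply _ (r 1) rfl, d8_theta, if_pos (Or.inl rfl)]
    norm_num
  · refine indFun_eq_zero_of_support H _ d.theta d.theta_support _ fun x hx => ?_
    have ho : orderOf (x⁻¹ * d.f (r 2) * x) = orderOf (r 2 : DihedralGroup 4) := by
      rw [show x⁻¹ * d.f (r 2) * x = MulAut.conj x⁻¹ (d.f (r 2)) by simp, MulEquiv.orderOf_eq,
        orderOf_injective d.f d.inj]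
    rcases hx with hx | hx <;> rw [hx, orderOf_injective d.f d.inj] at ho <;>
      simp only [DihedralGroup.orderOf_r] at ho <;> revert ho <;> decide

/-- Values of a character at the central involution and at an element of order four. -/
theorem exists_int_values {V : Type*} [AddCommGroup V] [Module ℂ V] [FiniteDimensional ℂ V]
    (ρ : Representation ℂ G V) (a : G) (ha : a ^ 4 = 1) (ε : ℤ) (hε : ρ.character a = ε) :
    ∃ δ : ℤ, ρ.character (a * a) = δ ∧ 2 ∣ δ + ε ∧ 4 ∣ (Module.finrank ℂ V : ℤ) - δ := by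
  classical
  obtain ⟨b, μ, h1, h2, h3⟩ := H25.exists_eigenbasis ρ a
  have h4 : ∀ i, μ i = 1 ∨ μ i = -1 ∨ μ i = Complex.I ∨ μ i = -Complex.I := by
    intro i
    have h' : μ i ^ 4 = 1 := by
      obtain ⟨k, hk⟩ := orderOf_dvd_of_pow_eq_one ha
      rw [hk, pow_mul, h2, one_pow]
    have : (μ i - 1) * (μ i + 1) * (μ i - Complex.I) * (μ i + Complex.I) = 0 := by
      have hI : Complex.I ^ 2 = -1 := Complex.I_sq
      linear_combination h' - (μ i ^ 2 - 1) * hI
    rcases mul_eq_zero.mp this with h | h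
    · rcases mul_eq_zero.mp h with h | h
      · rcases mul_eq_zero.mp h with h | h
        · exact Or.inl (sub_eq_zero.mp h)
        · exact Or.inr (Or.inl (eq_neg_of_add_eq_zero_left h))
      · exact Or.inr (Or.inr (Or.inl (sub_eq_zero.mp h)))
    · exact Or.inr (Or.inr (Or.inr (eq_neg_of_add_eq_zero_left h)))
  -- real and imaginary parts, as integers
  set re : Fin (Module.finrank ℂ V) → ℤ := fun i =>
    if μ i = 1 then 1 else if μ i = -1 then -1 else 0 with hre
  have hmu : ∀ i, ((μ i).re : ℝ) = (re i : ℝ) ∧ μ i ^ 2 = ((2 * re i ^ 2 - 1 : ℤ) : ℂ) ∧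
      (re i = 1 ∨ re i = -1 ∨ re i = 0) := by
    intro i
    rcases h4 i with h | h | h | h <;> simp [hre, h, Complex.ext_iff] <;> norm_num [Complex.ext_iff, sq]
  refine ⟨∑ i, (2 * re i ^ 2 - 1), ?_, ?_, ?_⟩
  · rw [Int.cast_sum]
    have hb : ∀ i, ρ (a * a) (b i) = μ i ^ 2 • b i := fun i => by
      rw [map_mul, Module.End.mul_apply, h1, map_smul, h1, smul_smul, sq]
    rw [Representation.character, H25.trace_eq_sum_of_eigenbasis _ b _ hb]
    exact Finset.sum_congr rfl fun i _ => (hmu i).2.1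
  · have hεre : (ε : ℝ) = ∑ i, (re i : ℝ) := by
      have := congrArg Complex.re (hε.symm.trans h3)
      rw [Complex.re_sum] at this
      simp only [(hmu _).1] at this
      simpa using this
    have hεi : ε = ∑ i, re i := by exact_mod_cast hεre
    rw [hεi, ← Finset.sum_add_distrib]
    have hIm : ∑ i, (μ i).im = 0 := by
      have := congrArg Complex.im (hε.symm.trans h3)
      rw [Complex.im_sum] at this
      simpa using this.symm
    -- the number of non-real eigenvalues is even
    set s : Fin (Module.finrank ℂ V) → ℤ := fun i =>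
      if μ i = Complex.I then 1 else if μ i = -Complex.I then -1 else 0 with hs
    have hsim : ∀ i, (μ i).im = (s i : ℝ) ∧
        2 ∣ ((2 * re i ^ 2 - 1 + re i) - s i) := by
      intro i
      rcases h4 i with h | h | h | h <;> simp [hs, hre, h, Complex.ext_iff] <;>
        norm_num [Complex.ext_iff]
    have hs0 : ∑ i, s i = 0 := by
      have : ((∑ i, s i : ℤ) : ℝ) = 0 := by
        rw [Int.cast_sum, ← hIm]; simp only [(hsim _).1]
      exact_mod_cast this
    have := Finset.dvd_sum (s := Finset.univ) fun i _ => (hsim i).2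
    rwa [Finset.sum_sub_distrib, hs0, sub_zero] at this
  · have hIm : ∑ i, (μ i).im = 0 := by
      have := congrArg Complex.im (hε.symm.trans h3)
      rw [Complex.im_sum] at this
      simpa using this.symm
    set s : Fin (Module.finrank ℂ V) → ℤ := fun i =>
      if μ i = Complex.I then 1 else if μ i = -Complex.I then -1 else 0 with hs
    have hsim : ∀ i, (μ i).im = (s i : ℝ) ∧ 4 ∣ ((1 - (2 * re i ^ 2 - 1)) - 2 * s i) := by
      intro i
      rcases h4 i with h | h | h | h <;> simp [hs, hre, h, Complex.ext_iff] <;>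
        norm_num [Complex.ext_iff]
    have hs0 : ∑ i, s i = 0 := by
      have : ((∑ i, s i : ℤ) : ℝ) = 0 := by
        rw [Int.cast_sum, ← hIm]; simp only [(hsim _).1]
      exact_mod_cast this
    have := Finset.dvd_sum (s := Finset.univ) fun i _ => (hsim i).2
    rw [Finset.sum_sub_distrib, Finset.sum_sub_distrib, ← Finset.mul_sum, hs0, mul_zero,
      sub_zero] at this
    simpa using this


/-- The sum of the induced function over products of two conjugates of the central involution. -/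
theorem D8Data.pair_sum (hperf : commutator G = ⊤) (hcl : Cfsg.IsClassFunction d.f.range d.theta)
    [DecidableRel (IsConj (α := G))] :
    ∑ x ∈ Finset.univ.filter (IsConj (d.f (r 2))), ∑ y ∈ Finset.univ.filter (IsConj (d.f (r 2))),
      Cfsg.indFun d.f.range d.theta (x * y) = (d.f.range.index : ℂ) * 32 := by
  classical
  set t := d.f (r 2) with htdef
  set T := (Finset.univ : Finset G).filter (IsConj t) with hT
  have hot : orderOf t = 2 := by
    rw [htdef, orderOf_injective d.f d.inj]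
    exact orderOf_eq_prime (by decide) (by decide)
  have hX : ({d.f (r 1), d.f (r 3)} : Set G) ⊆ d.f.range := by
    rintro x (rfl | rfl) <;> exact ⟨_, rfl⟩
  have := Cfsg.Agent.S0849.result d.f.range ({d.f (r 1), d.f (r 3)} : Set G) hX ?_
    (fun g hg x hx hgx => hg (d.ti g x hx hgx)) ?_ d.theta hcl d.theta_support t t hot hot
  · have e1 : {p : G × G | IsConj t p.1 ∧ IsConj t p.2} = ↑(T ×ˢ T) := by
      ext p; simp [hT]
    have e2 : {p : d.f.range × d.f.range | IsConj t (p.1 : G) ∧ IsConj t (p.2 : G)} =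
        ↑((Finset.univ : Finset (d.f.range × d.f.range)).filter
          fun p => IsConj t (p.1 : G) ∧ IsConj t (p.2 : G)) := by
      ext p; simp
    rw [e1, e2, finsum_mem_coe_finset, finsum_mem_coe_finset, Finset.sum_product] at this
    rw [this]
    refine congrArg (fun w => (d.f.range.index : ℂ) * w) ?_
    rw [Finset.sum_filter, Fintype.sum_prod_type, d.sum_range]
    simp only [d.sum_range]
    rw [← show ((32 : ℤ) : ℂ) = 32 by norm_num, ← d8_pair_sum, Int.cast_sum]
    refine Finset.sum_congr rfl fun x _ => ?_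
    rw [Int.cast_sum]
    refine Finset.sum_congr rfl fun y _ => ?_
    rw [apply_ite (Int.cast : ℤ → ℂ), Int.cast_zero]
    refine if_congr ?_ ?_ rfl
    · have hiff : ∀ z : DihedralGroup 4, IsConj t (d.f z) ↔ z ≠ 1 ∧ z * z = 1 := by
        intro z
        refine ⟨fun h => ?_, fun h => d.isConj_of_perfect hperf z h.2 h.1⟩
        obtain ⟨g, hg⟩ := isConj_iff.mp h
        have ho2 : orderOf z = 2 := by
          rw [← orderOf_injective d.f d.inj, ← hg, ← MulAut.conj_apply, MulEquiv.orderOf_eq, hot]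
        exact ⟨fun h' => by simp [h'] at ho2, by rw [← sq, ← ho2, pow_orderOf_eq_one]⟩
      rw [hiff, hiff]
      tauto
    · exact d.theta_apply _ (x * y) (map_mul d.f x y)
  · intro h hh x hx
    obtain ⟨z, rfl⟩ := hh
    rcases hx with rfl | rfl <;> rw [← map_mul, ← map_inv, ← map_mul] <;>
      [obtain h | h := (show ∀ z : DihedralGroup 4, z * r 1 * z⁻¹ = r 1 ∨ z * r 1 * z⁻¹ = r 3 by
        decide) z;
      obtain h | h := (show ∀ z : DihedralGroup 4, z * r 3 * z⁻¹ = r 1 ∨ z * r 3 * z⁻¹ = r 3 by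
        decide) z] <;> rw [h] <;> simp
  · rintro x (rfl | rfl) <;> rw [← map_inv]
    · exact Or.inr rfl
    · exact Or.inl rfl


include d in
/-- The order of a perfect group with a `D₈` involution centraliser. -/
theorem D8Data.card_eq (hperf : commutator G = ⊤) : Nat.card G = 168 ∨ Nat.card G = 360 := by
  classical
  obtain ⟨Θ, hgen, hΘ, hcl, h1, hone, hnorm, ha, ht⟩ := d.exists_Theta
  obtain ⟨c, hc⟩ := H57.gen_exists_coef hgen
  set a := d.f (r 1) with hadef
  set t := d.f (r 2) with htdef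
  have haa : a * a = t := by rw [hadef, ← map_mul]; rfl
  have ha4 : a ^ 4 = 1 := by rw [hadef, ← map_pow, show (r 1 : DihedralGroup 4) ^ 4 = 1 by decide, map_one]
  have hval : ∀ g, Θ g = ∑ χ : Cfsg.IrrCharacter G, (c χ : ℂ) * χ.1 g := fun g => by
    rw [hc]; simp [Finset.sum_apply]
  -- values at `a`
  have hcc : ∀ g h : G, IsConj g h → ∀ χ : Cfsg.IrrCharacter G, χ.1 g = χ.1 h :=
    fun g h e χ => H26.irr_eq_of_isConj χ e
  have hainv : IsConj a a⁻¹ := isConj_iff.mpr ⟨d.f (sr 0), by
    rw [hadef, ← map_inv, ← map_mul, ← map_inv, ← map_mul]; rfl⟩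
  have hreal : ∀ χ : Cfsg.IrrCharacter G, conj (χ.1 a) = χ.1 a := fun χ => by
    rw [← H26.irr_inv]; exact (hcc _ _ hainv χ).symm
  have hcol : ∀ g h : G, ∑ χ : Cfsg.IrrCharacter G, χ.1 g * conj (χ.1 h) =
      (Nat.card (Subgroup.centralizer ({h} : Set G)) : ℂ) * H26.classIndicator h g :=
    H26.column_orthogonality
  have hind : ∀ g : G, H26.classIndicator g g = 1 := fun g => by
    unfold H26.classIndicator
    exact if_pos (IsConj.refl g)
  have hsum4 : ∑ χ : Cfsg.IrrCharacter G, χ.1 a * χ.1 a = 4 := by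
    have := hcol a a
    rw [hind, mul_one, hadef, d.card_centralizer] at this
    simp only [← hadef, hreal] at this
    exact_mod_cast this
  have hc4 : ∑ χ : Cfsg.IrrCharacter G, ((c χ : ℂ)) ^ 2 = 4 := by
    rw [← hnorm, hc, H57.inner_self_coef]; push_cast; rfl
  have hca : ∀ χ : Cfsg.IrrCharacter G, χ.1 a = (c χ : ℂ) := by
    have h0 : ∑ χ : Cfsg.IrrCharacter G, Complex.normSq (χ.1 a - (c χ : ℂ)) = 0 := by
      have : ((∑ χ : Cfsg.IrrCharacter G, Complex.normSq (χ.1 a - (c χ : ℂ)) : ℝ) : ℂ) = 0 := by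
        push_cast
        simp only [← Complex.mul_conj, map_sub, hreal, map_intCast]
        have e : ∀ χ : Cfsg.IrrCharacter G, (χ.1 a - (c χ : ℂ)) * (χ.1 a - (c χ : ℂ)) =
            χ.1 a * χ.1 a - 2 * ((c χ : ℂ) * χ.1 a) + (c χ : ℂ) ^ 2 := fun χ => by ring
        simp only [e, Finset.sum_add_distrib, Finset.sum_sub_distrib, ← Finset.mul_sum, hsum4, hc4,
          ← hval, ha]
        norm_num
      exact_mod_cast this
    intro χ
    have := (Finset.sum_eq_zero_iff_of_nonneg (fun x _ => Complex.normSq_nonneg _)).mp h0 χ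
      (Finset.mem_univ χ)
    exact sub_eq_zero.mp (Complex.normSq_eq_zero.mp this)
  set o := H26.oneIrr G
  have ho : c o = 1 := by
    have := hca o
    rw [H26.oneIrr_val] at this
    exact_mod_cast this.symm
  have hdata : ∀ χ : Cfsg.IrrCharacter G, ∃ f : ℕ, ∃ δ : ℤ, 0 < f ∧ χ.1 1 = f ∧ χ.1 t = δ ∧
      2 ∣ δ + c χ ∧ 4 ∣ (f : ℤ) - δ ∧ (f = 1 → χ = o) := by
    intro χ
    obtain ⟨n, ρ, hρ, e⟩ := χ.2
    haveI := hρ
    obtain ⟨δ, hδ, h2, h4⟩ := exists_int_values ρ a ha4 (c χ) (by rw [e]; exact hca χ)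
    refine ⟨_, δ, H25.finrank_pos_of_isIrreducible ρ, by rw [← e, Representation.char_one],
      by rw [← haa, ← e]; exact hδ, h2, h4, fun hf => ?_⟩
    obtain ⟨q, hq⟩ := exists_hom_of_linear (H26.irr_isCharacter χ)
      (by rw [← e, Representation.char_one, hf, Nat.cast_one])
    have hk : q.ker = ⊤ := top_le_iff.mp (hperf ▸ Abelianization.commutator_subset_ker q)
    apply Subtype.ext
    rw [hq]
    funext g
    rw [MonoidHom.mem_ker.mp (hk ▸ Subgroup.mem_top g : g ∈ q.ker)]
    rfl
  choose f δ hfpos hf hδ hpar hmod hf1 using hdata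
  have ho' : f o = 1 ∧ δ o = 1 := by
    constructor
    · have := hf o; rw [H26.oneIrr_val] at this; exact_mod_cast this.symm
    · have := hδ o; rw [H26.oneIrr_val] at this; exact_mod_cast this.symm
  -- column at `t`
  have hδ8 : ∑ χ : Cfsg.IrrCharacter G, δ χ ^ 2 = 8 := by
    have := hcol t t
    rw [hind, mul_one, htdef, ← d.range_eq, d.card_range] at this
    simp only [← htdef, hδ, map_intCast, ← sq] at this
    exact_mod_cast this
  have hc4' : ∑ χ : Cfsg.IrrCharacter G, c χ ^ 2 = 4 := by exact_mod_cast hc4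
  rw [← Finset.add_sum_erase _ _ (Finset.mem_univ o), ho] at hc4'
  set s := (Finset.univ.erase o).filter fun χ => c χ ≠ 0 with hs
  have hfilt : ∀ F : Cfsg.IrrCharacter G → ℤ, (∀ χ, c χ = 0 → F χ = 0) →
      ∑ χ, F χ = F o + ∑ χ ∈ s, F χ := by
    intro F hF
    have e : ∀ χ ∈ Finset.univ.erase o, F χ ≠ 0 → c χ ≠ 0 := fun χ _ h hh => h (hF χ hh)
    rw [← Finset.add_sum_erase _ _ (Finset.mem_univ o), hs, Finset.sum_filter_of_ne e]
  have hs3 : ∑ χ ∈ s, c χ ^ 2 = 3 := by
    have := hfilt (fun χ => c χ ^ 2) (fun χ h => by simp [h])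
    rw [← Finset.add_sum_erase _ _ (Finset.mem_univ o), ho] at this
    omega
  have hge : ∀ χ ∈ s, 1 ≤ c χ ^ 2 := fun χ hχ => by
    have h := (Finset.mem_filter.mp hχ).2
    have := sq_nonneg (c χ)
    have : c χ ^ 2 ≠ 0 := pow_ne_zero _ h
    omega
  have hs1 : ∀ χ ∈ s, c χ = 1 ∨ c χ = -1 := by
    intro χ hχ
    have hle := Finset.single_le_sum (fun x hx => le_trans zero_le_one (hge x hx)) hχ
    rw [hs3] at hle
    have h2 : c χ < 2 := by nlinarith
    have h3 : -2 < c χ := by nlinarith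
    have := (Finset.mem_filter.mp hχ).2
    omega
  have hcard : s.card = 3 := by
    rw [Finset.sum_congr rfl fun χ hχ => (sq_eq_one_iff.mpr (hs1 χ hχ))] at hs3
    have h3 : (s.card : ℤ) = 3 := by simpa using hs3
    exact_mod_cast h3
  obtain ⟨p, q, w, hpq, hpw, hqw, hsset⟩ := Finset.card_eq_three.mp hcard
  have hmems : ∀ χ ∈ s, χ ≠ o := fun χ hχ => (Finset.mem_erase.mp (Finset.mem_filter.mp hχ).1).1
  have hp : p ∈ s := by simp [hsset]
  have hq : q ∈ s := by simp [hsset]
  have hw : w ∈ s := by simp [hsset]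
  have hsum3 : ∀ F : Cfsg.IrrCharacter G → ℤ, (∀ χ, c χ = 0 → F χ = 0) →
      ∑ χ, F χ = F o + (F p + F q + F w) := fun F hF => by
    rw [hfilt F hF, hsset, Finset.sum_insert (by simp [hpq, hpw]), Finset.sum_pair hqw, add_assoc]
  have hdeg0 : ∑ χ : Cfsg.IrrCharacter G, c χ * (f χ : ℤ) = 0 := by
    have := h1
    rw [hval] at this
    simp only [hf] at this
    exact_mod_cast this
  have hδ0 : ∑ χ : Cfsg.IrrCharacter G, c χ * δ χ = 0 := by
    have := ht
    rw [hval] at this
    simp only [hδ] at this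
    exact_mod_cast this
  rw [hsum3 _ (fun χ h => by simp [h]), ho, ho'.2, one_mul] at hδ0
  rw [hsum3 _ (fun χ h => by simp [h]), ho, ho'.1, one_mul] at hdeg0
  have hδle : δ p ^ 2 + δ q ^ 2 + δ w ^ 2 ≤ 7 := by
    have hle : ∑ χ ∈ insert o s, δ χ ^ 2 ≤ 8 := hδ8 ▸
      Finset.sum_le_sum_of_subset_of_nonneg (Finset.subset_univ _) (fun x _ _ => sq_nonneg _)
    rw [Finset.sum_insert (fun h => hmems o h rfl), hsset, Finset.sum_insert (by simp [hpq, hpw]),
      Finset.sum_pair hqw, ho'.2] at hle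
    omega
  have hδodd : ∀ χ ∈ s, δ χ % 2 = 1 := fun χ hχ => by
    have := hpar χ; rcases hs1 χ hχ with h | h <;> rw [h] at this <;> omega
  have hδone : ∀ χ ∈ s, δ χ = 1 ∨ δ χ = -1 := by
    intro χ hχ
    have h7 : δ χ ^ 2 ≤ 7 := by
      have := sq_nonneg (δ p); have := sq_nonneg (δ q); have := sq_nonneg (δ w)
      rw [hsset] at hχ
      simp only [Finset.mem_insert, Finset.mem_singleton] at hχ
      rcases hχ with rfl | rfl | rfl <;> omega
    have h2 : δ χ < 3 := by nlinarith
    have h3 : -3 < δ χ := by nlinarith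
    have := hδodd χ hχ
    omega
  -- counting products of two involutions
  set T := (Finset.univ : Finset G).filter (IsConj t) with hT
  have hTcard : T.card * 8 = Nat.card G := by
    have h := H26.card_class_mul_card_centralizer t
    rw [htdef, ← d.range_eq, d.card_range] at h
    rw [← h]
    congr 2
    ext x
    rw [hT, Finset.mem_filter, Finset.mem_filter, ConjClasses.mk_eq_mk_iff_isConj, isConj_comm, htdef]
  have hpairs : ∑ x ∈ T, ∑ y ∈ T, Θ (x * y) = (d.f.range.index : ℂ) * 32 := by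
    rw [hΘ, hT, htdef]
    exact d.pair_sum hperf hcl
  rw [sum_class_pair Θ (H57.gen_classFunction hgen)] at hpairs
  have hin : ∀ χ : Cfsg.IrrCharacter G, Cfsg.classInner Θ χ.1 = c χ := fun χ => by
    rw [hc]; exact H57.inner_coef c χ
  simp only [hin, hδ, hf] at hpairs
  have hidx : d.f.range.index * 8 = Nat.card G := by rw [← d.card_range, Subgroup.index_mul_card]
  have hTi : T.card = d.f.range.index := by omega
  rw [← hT, hTi] at hpairs
  have hne : (d.f.range.index : ℂ) ≠ 0 := Nat.cast_ne_zero.mpr Subgroup.index_ne_zero_of_finite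
  have heqC : (d.f.range.index : ℂ) *
      (1 + (c p : ℂ) * ((δ p : ℂ) * δ p / (f p : ℂ)) + (c q : ℂ) * ((δ q : ℂ) * δ q / (f q : ℂ)) +
        (c w : ℂ) * ((δ w : ℂ) * δ w / (f w : ℂ))) = 32 := by
    apply mul_left_cancel₀ hne
    rw [← hpairs, ← mul_assoc]
    congr 1
    have e : ∀ χ ∈ (Finset.univ : Finset (Cfsg.IrrCharacter G)).erase o,
        (c χ : ℂ) * ((δ χ : ℂ) * δ χ / (f χ : ℂ)) ≠ 0 → c χ ≠ 0 := fun χ _ h hh => h (by simp [hh])
    rw [← Finset.add_sum_erase _ _ (Finset.mem_univ o), ho, ho'.1, ho'.2,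
      ← Finset.sum_filter_of_ne e, ← hs, hsset, Finset.sum_insert (by simp [hpq, hpw]),
      Finset.sum_pair hqw]
    push_cast
    ring
  -- pass to the signed degrees
  set x := c p * (f p : ℤ) with hx
  set y := c q * (f q : ℤ) with hy
  set z := c w * (f w : ℤ) with hz
  have hfge : ∀ χ ∈ s, 3 ≤ f χ ∧ (f χ : ℤ) % 2 = 1 := by
    intro χ hχ
    have := hmod χ
    have := hδodd χ hχ
    have := hfpos χ
    refine ⟨?_, by omega⟩
    rcases eq_or_ne (f χ) 1 with h | h
    · exact absurd (hf1 χ h) (hmems χ hχ)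
    · omega
  have habs : ∀ χ ∈ s, 3 ≤ (c χ * (f χ : ℤ)).natAbs ∧ (c χ * (f χ : ℤ)) % 2 = 1 ∧
      (c χ * (f χ : ℤ)) ^ 2 = (f χ : ℤ) ^ 2 := by
    intro χ hχ
    have := hfge χ hχ
    rcases hs1 χ hχ with h | h <;> rw [h] <;> refine ⟨by omega, by omega, by ring⟩
  have hcast : ∀ χ ∈ s, (c χ : ℂ) * ((δ χ : ℂ) * δ χ / (f χ : ℂ)) =
      1 / ((c χ * (f χ : ℤ) : ℤ) : ℂ) := by
    intro χ hχ
    have hd : (δ χ : ℂ) * δ χ = 1 := by rcases hδone χ hχ with h | h <;> rw [h] <;> norm_num
    rw [hd]
    rcases hs1 χ hχ with h | h <;> rw [h] <;> push_cast <;> ring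
  rw [hcast p hp, hcast q hq, hcast w hw, ← hx, ← hy, ← hz] at heqC
  have hx0 : (x : ℂ) ≠ 0 := by
    have := (habs p hp).1; exact_mod_cast (show x ≠ 0 by omega)
  have hy0 : (y : ℂ) ≠ 0 := by
    have := (habs q hq).1; exact_mod_cast (show y ≠ 0 by omega)
  have hz0 : (z : ℂ) ≠ 0 := by
    have := (habs w hw).1; exact_mod_cast (show z ≠ 0 by omega)
  set g : ℤ := (Nat.card G : ℤ) with hg
  have heq : g * (x * y * z + y * z + x * z + x * y) = 256 * (x * y * z) := by
    have hgc : ((g : ℤ) : ℂ) = (d.f.range.index : ℂ) * 8 := by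
      rw [hg, ← hidx]; push_cast; ring
    field_simp at heqC
    have : ((g * (x * y * z + y * z + x * z + x * y) : ℤ) : ℂ) = ((256 * (x * y * z) : ℤ) : ℂ) := by
      push_cast
      rw [hgc]
      linear_combination 8 * heqC
    exact_mod_cast this
  have hb : 1 + x ^ 2 + y ^ 2 + z ^ 2 ≤ g := by
    have hsq : ∑ χ : Cfsg.IrrCharacter G, (f χ : ℤ) ^ 2 = g := by
      have := H26.sum_sq_degrees (G := G)
      simp only [hf] at this
      rw [hg]
      exact_mod_cast this
    rw [hx, hy, hz, (habs p hp).2.2, (habs q hq).2.2, (habs w hw).2.2, ← hsq]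
    have hle : ∑ χ ∈ insert o s, (f χ : ℤ) ^ 2 ≤ ∑ χ : Cfsg.IrrCharacter G, (f χ : ℤ) ^ 2 :=
      Finset.sum_le_sum_of_subset_of_nonneg (Finset.subset_univ _) (fun x _ _ => sq_nonneg _)
    rw [Finset.sum_insert (fun h => hmems o h rfl), hsset, Finset.sum_insert (by simp [hpq, hpw]),
      Finset.sum_pair hqw, ho'.1] at hle
    omega
  have h16 : g % 16 = 8 := by
    have := d.index_odd
    omega
  rcases d8_diophantine (habs p hp).2.1 (habs q hq).2.1 (habs p hp).1 (habs q hq).1 (habs w hw).1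
    (by omega) heq h16 hb with h | h <;> omega

end Cfsg.Agent.H38
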