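import Mathlib
import Cfsg.Agent.H38.FittingLengthAction
import Cfsg.Prelude.Def_EvenType

/-! Coprime elementary abelian operators with fixed points of bounded nilpotent series length.
`SolvableSignalizerStatement` is the form of the solvable signalizer functor theorem used. -/

set_option autoImplicit false

namespace Cfsg.Agent.H38

open Subgroup

/-- The conclusion of the solvable signalizer functor theorem, as a property. -/
def SolvableSignalizerStatement.{u} : Prop :=
  ∀ {G : Type u} [Group G] [Finite G] {p : ℕ} [Fact p.Prime] (A : Subgroup G)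
    (_ : ∀ a ∈ A, ∀ b ∈ A, a * b = b * a) (_ : ∀ a ∈ A, a ^ p = 1) (_ : p ^ 3 ≤ Nat.card A)
    (θ : G → Subgroup G) (_ : ∀ a ∈ A, a ≠ 1 → θ a ≤ Subgroup.centralizer {a})
    (_ : ∀ a ∈ A, a ≠ 1 → ¬ p ∣ Nat.card (θ a))
    (_ : ∀ a ∈ A, a ≠ 1 → ∀ b ∈ A, ∀ x ∈ θ a, b * x * b⁻¹ ∈ θ a)
    (_ : ∀ a ∈ A, a ≠ 1 → Group.IsSolvable (θ a))
    (_ : ∀ a ∈ A, a ≠ 1 → ∀ b ∈ A, b ≠ 1 → θ a ⊓ Subgroup.centralizer {b} ≤ θ b),
    Group.IsSolvable ↥(⨆ a : {a : G // a ∈ A ∧ a ≠ 1}, θ a)

variable {G : Type*} [Group G] [Finite G] {p : ℕ} [Fact p.Prime]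

/-- Fixed points of nilpotent series length at most `n` and rank at least `n + 2` force series
length at most `n`. -/
theorem iterRes_eq_bot_of_fixed {K A : Subgroup G} (hKn : K.Normal) (hKs : Group.IsSolvable K)
    (hA : IsElementaryAbelian p A) (hpK : ¬ p ∣ Nat.card K) {n : ℕ}
    (hrank : p ^ (n + 2) ≤ Nat.card A)
    (hfix : ∀ a ∈ A, a ≠ 1 → iterRes n (K ⊓ centralizer ({a} : Set G)) = ⊥) :
    iterRes n K = ⊥ := by
  by_contra h
  obtain ⟨q, hq, hdvd⟩ := Nat.exists_prime_and_dvd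
    (fun h1 => h (Subgroup.card_eq_one.mp h1) : Nat.card (iterRes n K) ≠ 1)
  obtain ⟨B, hB, hBc, hBq⟩ := exists_fixed_iterRes p n G K A hKn hKs hA hpK q hq hdvd
  have hB1 : B ≠ ⊥ := by
    rintro rfl
    rw [Subgroup.card_bot, mul_one] at hBc
    exact absurd (hrank.trans hBc)
      (not_le.mpr (Nat.pow_lt_pow_right (Fact.out : p.Prime).one_lt (by omega)))
  obtain ⟨b, hb, hb1⟩ := (Subgroup.bot_or_exists_ne_one B).resolve_left hB1
  have := card_dvd_of_le (iterRes_mono (inf_le_inf_left K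
    (centralizer_le (Set.singleton_subset_iff.mpr hb) :
      centralizer (B : Set G) ≤ centralizer ({b} : Set G))) n)
  rw [hfix b (hB hb) hb1, Subgroup.card_bot] at this
  exact hq.not_dvd_one (hBq.trans this)

theorem solvable_and_hasNilSeries_of_fixed.{u, v} (hsig : SolvableSignalizerStatement.{max u v})
    {X : Type u} {A : Type v} [Group X] [Finite X]
    [CommGroup A] [Finite A] {p : ℕ} [Fact p.Prime] (hA : IsPGroup p A) (hexp : ∀ a : A, a ^ p = 1)
    (hnc : ¬ IsCyclic A) (hcop : ¬ p ∣ Nat.card X) (φ : A →* MulAut X) (n : ℕ)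
    (hcent : ∀ a : A, a ≠ 1 → Group.IsSolvable ↥(Cfsg.fixedSubgroup (φ a)) ∧
      HasNilSeries ↥(Cfsg.fixedSubgroup (φ a)) n)
    (hrank : p ^ (n + 2) ≤ Nat.card A) :
    Group.IsSolvable X ∧ HasNilSeries X n := by
  haveI := H20.External.finite_semidirect φ
  set A' := (SemidirectProduct.inr : A →* X ⋊[φ] A).range with hA'
  set K := (SemidirectProduct.inl : X →* X ⋊[φ] A).range with hK
  have hAcard : Nat.card A' = Nat.card A := H20.External.card_range_inr φ
  have hKcard : Nat.card K = Nat.card X := H20.External.card_range_inl φ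
  have hKn : K.Normal := by
    rw [hK, SemidirectProduct.range_inl_eq_ker_rightHom]; exact MonoidHom.normal_ker _
  have hA'el : IsElementaryAbelian p A' := by
    refine ⟨IsMulCommutative.of_comm ?_, ?_⟩
    · rintro ⟨_, a, rfl⟩ ⟨_, b, rfl⟩
      exact Subtype.ext (by
        show SemidirectProduct.inr a * SemidirectProduct.inr b = _
        rw [← map_mul, mul_comm, map_mul]; rfl)
    · rintro _ ⟨a, rfl⟩; rw [← map_pow, hexp, map_one]
  -- the fixed points inside the semidirect product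
  have hmap : ∀ a : A, (Cfsg.fixedSubgroup (φ a)).map (SemidirectProduct.inl : X →* X ⋊[φ] A) =
      K ⊓ centralizer ({SemidirectProduct.inr a} : Set (X ⋊[φ] A)) := by
    intro a
    ext y
    constructor
    · rintro ⟨x, hx, rfl⟩
      refine ⟨⟨x, rfl⟩, mem_centralizer_singleton_iff.mpr ?_⟩
      have h := H20.External.conj_inl φ a x
      rw [show φ a x = x from hx, mul_inv_eq_iff_eq_mul] at h
      exact h.symm
    · rintro ⟨⟨x, rfl⟩, hc⟩
      refine ⟨x, SemidirectProduct.inl_injective (φ := φ) ?_, rfl⟩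
      rw [← H20.External.conj_inl φ a x, ← mem_centralizer_singleton_iff.mp hc,
        mul_inv_cancel_right]
  have hθs : ∀ a : A, a ≠ 1 →
      Group.IsSolvable ↥(K ⊓ centralizer ({SemidirectProduct.inr a} : Set (X ⋊[φ] A))) := by
    intro a ha
    rw [← hmap]
    haveI := (hcent a ha).1
    exact Group.isSolvable_of_surjective
      ((SemidirectProduct.inl : X →* X ⋊[φ] A).subgroupMap_surjective (Cfsg.fixedSubgroup (φ a)))
  have hfix : ∀ b ∈ A', b ≠ 1 → iterRes n (K ⊓ centralizer ({b} : Set (X ⋊[φ] A))) = ⊥ := by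
    rintro _ ⟨a, rfl⟩ hb
    have ha : a ≠ 1 := fun h => hb (by rw [h, map_one])
    rw [← hmap, ← map_iterRes, (hasNilSeries_iff_iterRes _).mp (hcent a ha).2, Subgroup.map_bot]
  have hpK : ¬ p ∣ Nat.card K := by rw [hKcard]; exact hcop
  have hA'nc : ¬ IsCyclic A' := fun h =>
    hnc ((MonoidHom.ofInjective SemidirectProduct.inr_injective).isCyclic.mpr h)
  haveI := hA'el.1
  have hgen : K ≤ ⨆ b : {b : X ⋊[φ] A // b ∈ A' ∧ b ≠ 1}, K ⊓ centralizer ({(b : X ⋊[φ] A)} : Set _) :=
    H20.le_of_centralizers_le hA'nc le_normalizer_of_normal (H52.elem_coprime hA'el hpK)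
      fun b hb hb1 => le_iSup (fun b : {b : X ⋊[φ] A // b ∈ A' ∧ b ≠ 1} =>
        K ⊓ centralizer ({(b : X ⋊[φ] A)} : Set _)) ⟨b, hb, hb1⟩
  have hKs : Group.IsSolvable K := by
    rcases Nat.eq_zero_or_pos n with rfl | hn
    · have hbot : K ≤ ⊥ := hgen.trans (iSup_le fun b => le_of_eq (hfix b b.2.1 b.2.2))
      exact H20.isSolvable_of_le hbot (H20.isSolvable_of_isMulCommutative ⊥)
    · refine H20.isSolvable_of_le hgen (hsig A' (fun a ha b hb => H52.elem_comm hA'el ha hb)
        hA'el.2 ?_ (fun b => K ⊓ centralizer ({b} : Set (X ⋊[φ] A))) (fun _ _ _ => inf_le_right)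
        (fun _ _ _ h => hpK (h.trans (card_dvd_of_le inf_le_left))) ?_ ?_ ?_)
      · rw [hAcard]
        exact (Nat.pow_le_pow_right (Fact.out : p.Prime).pos (by omega)).trans hrank
      · intro a ha _ b hb x hx
        refine ⟨hKn.conj_mem x hx.1 b, mem_centralizer_singleton_iff.mpr ?_⟩
        have h1 := mem_centralizer_singleton_iff.mp hx.2
        have h2 := H52.elem_comm hA'el hb ha
        have h3 : b⁻¹ * a = a * b⁻¹ := H52.elem_comm hA'el (inv_mem hb) ha
        calc b * x * b⁻¹ * a = b * (x * a) * b⁻¹ := by rw [mul_assoc _ b⁻¹, h3]; group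
          _ = b * (a * x) * b⁻¹ := by rw [h1]
          _ = a * (b * x * b⁻¹) := by rw [← mul_assoc b a x, h2]; group
      · rintro _ ⟨a, rfl⟩ hb
        exact hθs a (fun h => hb (by rw [h, map_one]))
      · exact fun a _ _ b _ _ => inf_le_inf_right _ inf_le_left
  have e : X ≃* K := MonoidHom.ofInjective SemidirectProduct.inl_injective
  haveI := hKs
  refine ⟨Group.isSolvable_of_surjective (f := e.symm.toMonoidHom) e.symm.surjective,
    hasNilSeries_of_iterRes_eq_bot ?_⟩
  refine Subgroup.map_injective (SemidirectProduct.inl_injective (φ := φ)) ?_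
  rw [map_iterRes, ← MonoidHom.range_eq_map, Subgroup.map_bot]
  exact iterRes_eq_bot_of_fixed hKn hKs hA'el hpK (by rw [hAcard]; exact hrank) hfix

end Cfsg.Agent.H38
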