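import Cfsg.Agent.H38.PrincipalNorm
import Cfsg.Agent.H32.BlockCount
import Cfsg.Agent.H41.PrimeNormal
import Cfsg.Agent.H42.Bounds
import Cfsg.Agent.H56.Clifford
import Cfsg.Agent.S0944
import Cfsg.Agent.S4667
import Mathlib.GroupTheory.Transfer

/-! The principal 2-block for a Klein four Sylow subgroup and one class of involutions. -/

set_option autoImplicit false
set_option linter.unusedSectionVars false

open scoped ComplexConjugate

namespace Cfsg.Agent.H38

open Cfsg.Agent.H40

variable {G : Type*} [Group G] [Fintype G] {p : ℕ} [Fact p.Prime] {M : Ideal Cfsg.AlgInt}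
  [M.IsMaximal]

/-- A normal `p`-complement cuts out the principal block. -/
theorem principalBlock_eq_of_complement (hM : Cfsg.IsPModular p M) (O : Subgroup G) [O.Normal]
    [Fintype O] (hO : ¬ p ∣ Nat.card O) (hidx : ∃ k, O.index = p ^ k) :
    Cfsg.principalBlock M G =
      {χ : Cfsg.IrrCharacter G | ∀ n ∈ O, (χ : G → ℂ) n = (χ : G → ℂ) 1} := by
  ext χ
  constructor
  · intro hχ
    exact H41.eq_one_of_sameBlock O hM hO (χ := H26.oneIrr G) hχ (fun _ _ => rfl)
  · intro hχ
    exact H41.mem_block_of_regular_in (p := p) O hM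
      (fun g hg => H41.mem_of_regular_of_index _ hidx hg)
      (H41.isPBlock_blockOf (H26.oneIrr _)) H41.isPBlock_principalBlock
      (H41.mem_blockOf_self (H26.oneIrr G)) (H41.mem_blockOf_self _) (H41.mem_blockOf_self _)
      (H41.classInner_oneIrr_ne_zero _ fun _ _ => rfl) (H41.classInner_oneIrr_ne_zero _ hχ)

open scoped Classical in
/-- The principal block idempotent under a normal `p`-complement is the average over it. -/
theorem blockCoeff_principal_of_complement (hM : Cfsg.IsPModular p M) (O : Subgroup G) [O.Normal]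
    [Fintype O] (hO : ¬ p ∣ Nat.card O) (hidx : ∃ k, O.index = p ^ k) (g : G) :
    Cfsg.blockCoeff (Cfsg.principalBlock M G) g = if g ∈ O then (Nat.card O : ℂ)⁻¹ else 0 := by
  rw [principalBlock_eq_of_complement hM O hO hidx]
  let f : G → ℂ := fun g => if g ∈ O then (Nat.card O : ℂ)⁻¹ else 0
  have hf : Cfsg.IsClassFunction G f := fun x h => by
    have : h * x * h⁻¹ ∈ O ↔ x ∈ O :=
      ⟨fun hh => by simpa [mul_assoc] using (inferInstance : O.Normal).conj_mem _ hh h⁻¹,
        fun hh => (inferInstance : O.Normal).conj_mem _ hh h⟩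
    simp only [f, this]
  have hin : ∀ χ : Cfsg.IrrCharacter G, Cfsg.classInner f (χ : G → ℂ) =
      if ∀ n ∈ O, (χ : G → ℂ) n = (χ : G → ℂ) 1 then (Nat.card G : ℂ)⁻¹ * conj ((χ : G → ℂ) 1)
      else 0 := by
    intro χ
    have hone := Cfsg.Agent.H26.oneIrr O
    have hsum : Cfsg.classInner f (χ : G → ℂ) =
        (Nat.card G : ℂ)⁻¹ * conj (Cfsg.classInner (fun n : O => (χ : G → ℂ) n)
          ((H26.oneIrr O : Cfsg.IrrCharacter O) : O → ℂ)) := by
      simp only [Cfsg.classInner, f, ite_mul, zero_mul, H26.oneIrr_val, map_one, mul_one, map_mul,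
        map_inv₀, map_natCast, map_sum, Finset.mul_sum]
      rw [← Fintype.sum_of_injective O.subtype O.subtype_injective _ _ ?_ fun n => ?_]
      · intro x hx
        rw [if_neg fun h => hx ⟨⟨x, h⟩, rfl⟩, mul_zero]
      · rw [if_pos (show O.subtype n ∈ O from n.2)]
        rfl
    rw [hsum]
    by_cases htriv : ∀ n ∈ O, (χ : G → ℂ) n = (χ : G → ℂ) 1
    · rw [if_pos htriv]
      congr 2
      simp only [Cfsg.classInner, H26.oneIrr_val, map_one, mul_one]
      rw [Finset.sum_congr rfl fun (n : O) _ => htriv n n.2, Finset.sum_const, nsmul_eq_mul,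
        Finset.card_univ, ← Nat.card_eq_fintype_card, ← mul_assoc,
        inv_mul_cancel₀ (Nat.cast_ne_zero.2 Nat.card_pos.ne'), one_mul]
    · rw [if_neg htriv]
      by_contra hne
      apply htriv
      obtain ⟨e, -, hres, -, hdeg⟩ := H56.restrict_eq_smul_of_invariant O (H26.oneIrr O).2
        (fun _ => rfl) χ.2 (fun h => hne (by rw [h, map_zero, mul_zero]))
      intro n hn
      have h := congrFun hres ⟨n, hn⟩
      simp only [Pi.smul_apply, H26.oneIrr_val, smul_eq_mul] at h
      rw [hdeg, H26.oneIrr_val]
      exact h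
  have hexp := congrArg conj (congrFun (H26.class_function_expansion f hf) g)
  rw [show conj (f g) = f g by simp only [f]; split <;> simp] at hexp
  rw [show (if g ∈ O then (Nat.card O : ℂ)⁻¹ else 0) = f g from rfl, hexp, blockCoeff_eq_sum,
    Finset.sum_apply, map_sum, Finset.mul_sum, Finset.sum_filter]
  refine Finset.sum_congr rfl fun χ _ => ?_
  rw [Pi.smul_apply, smul_eq_mul, hin, Set.mem_setOf_eq]
  split_ifs
  · rw [map_mul, map_mul, map_inv₀, map_natCast, Complex.conj_conj, mul_assoc]
  · simp

/-- An involution with Klein four Sylow subgroup has a centraliser with normal 2-complement. -/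
theorem exists_complement_centralizer {G : Type*} [Group G] [Finite G] (P : Sylow 2 G)
    (hP : Nat.card P = 4) (hexp : ∀ x : P, x * x = 1) {t : G} (ht : orderOf t = 2) (htP : t ∈ P) :
    ∃ O : Subgroup (Subgroup.centralizer ({t} : Set G)), O.Normal ∧ ¬ 2 ∣ Nat.card O ∧
      O.index = 4 := by
  have hcomm : ∀ a b : P, a * b = b * a := fun a b =>
    Commute.of_orderOf_dvd_two (fun x => orderOf_dvd_of_pow_eq_one (by rw [pow_two]; exact hexp x)) a b
  have hPC : (P : Subgroup G) ≤ Subgroup.centralizer ({t} : Set G) := fun x hx =>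
    Subgroup.mem_centralizer_singleton_iff.2 (congrArg Subtype.val (hcomm ⟨x, hx⟩ ⟨t, htP⟩))
  let P' : Sylow 2 (Subgroup.centralizer ({t} : Set G)) := P.subtype hPC
  have hcard : Nat.card P' = 4 := by
    rw [← hP]
    exact Nat.card_congr (Subgroup.subgroupOfEquivOfLe hPC).toEquiv
  have hburn : Subgroup.normalizer (P' : Set (Subgroup.centralizer ({t} : Set G))) ≤
      Subgroup.centralizer (P' : Set (Subgroup.centralizer ({t} : Set G))) := by
    intro n hn
    rw [Subgroup.mem_centralizer_iff]
    intro x hx
    -- `n ^ 2` centralises, and an element of odd order is a power of its square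
    have hsq : ∀ y ∈ (P' : Subgroup (Subgroup.centralizer ({t} : Set G))),
        n * n * y * (n * n)⁻¹ = y := by
      intro y hy
      let t' : Subgroup.centralizer ({t} : Set G) := ⟨t, hPC htP⟩
      have htt : ∀ z : Subgroup.centralizer ({t} : Set G), z * t' * z⁻¹ = t' := fun z => by
        have h : (z : G) * t = t * z := Subgroup.mem_centralizer_singleton_iff.1 z.2
        exact Subtype.ext (by push_cast; rw [h, mul_inv_cancel_right])
      by_cases hy1 : y = 1
      · subst hy1; simp
      by_cases hyt : y = t'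
      · subst hyt; exact htt _
      by_contra hne
      have ht1 : t' ≠ 1 := fun h => by
        have : t = 1 := congrArg Subtype.val h
        rw [this, orderOf_one] at ht; omega
      have hny := (Subgroup.mem_normalizer_iff.1 hn y).1 hy
      have hnny := (Subgroup.mem_normalizer_iff.1 hn _).1 hny
      have e : n * n * y * (n * n)⁻¹ = n * (n * y * n⁻¹) * n⁻¹ := by group
      rw [e] at hne
      -- five distinct elements in a group of order four
      have hinj : ∀ {a b : Subgroup.centralizer ({t} : Set G)}, n * a * n⁻¹ = n * b * n⁻¹ → a = b :=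
        fun h => mul_left_cancel (mul_right_cancel h)
      classical
      haveI := Fintype.ofFinite P'
      have h5 : 5 ≤ Nat.card P' := by
        rw [Nat.card_eq_fintype_card]
        let l : List (Subgroup.centralizer ({t} : Set G)) :=
          [1, t', y, n * y * n⁻¹, n * (n * y * n⁻¹) * n⁻¹]
        have hl : l.Nodup := by
          have a1 : n * y * n⁻¹ ≠ 1 := fun h => hy1 (hinj (h.trans (by simp)))
          have a2 : n * y * n⁻¹ ≠ t' := fun h => hyt (hinj (h.trans (htt n).symm))
          have a3 : n * y * n⁻¹ ≠ y := fun h => hne (by rw [h, h])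
          have a4 : n * (n * y * n⁻¹) * n⁻¹ ≠ 1 := fun h => a1 (hinj (h.trans (by simp)))
          have a5 : n * (n * y * n⁻¹) * n⁻¹ ≠ t' := fun h => a2 (hinj (h.trans (htt n).symm))
          have a6 : n * (n * y * n⁻¹) * n⁻¹ ≠ n * y * n⁻¹ := fun h => a3 (hinj h)
          simp only [l, List.nodup_cons, List.mem_cons, List.not_mem_nil, or_false, not_or,
            List.nodup_nil, and_true, not_false_iff]
          exact ⟨⟨ht1.symm, Ne.symm hy1, a1.symm, a4.symm⟩, ⟨Ne.symm hyt, a2.symm, a5.symm⟩,
            ⟨a3.symm, Ne.symm hne⟩, a6.symm⟩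
        have hmem : ∀ z ∈ l.toFinset, z ∈ (P' : Subgroup (Subgroup.centralizer ({t} : Set G))) := by
          intro z hz
          simp only [l, List.mem_toFinset, List.mem_cons, List.not_mem_nil, or_false] at hz
          rcases hz with rfl | rfl | rfl | rfl | rfl
          · exact one_mem _
          · exact htP
          · exact hy
          · exact hny
          · exact hnny
        calc 5 = l.toFinset.card := by rw [List.toFinset_card_of_nodup hl]; rfl
          _ ≤ _ := by
            rw [← Finset.card_attach, ← Finset.card_univ]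
            exact Finset.card_le_card_of_injOn (fun z => (⟨z.1, hmem z.1 z.2⟩ : P'))
              (fun _ _ => Finset.mem_univ _)
              (fun a _ b _ h => Subtype.ext (congrArg (fun q : P' => (q : Subgroup.centralizer ({t} : Set G))) h))
      omega
    haveI : IsMulCommutative P' := ⟨⟨fun a b => Subtype.ext (Subtype.ext (by
      have h := congrArg Subtype.val (hcomm ⟨_, a.2⟩ ⟨_, b.2⟩)
      exact h))⟩⟩
    -- the action of `n` has order dividing two and prime to two
    let Nn := Subgroup.normalizer (P' : Set (Subgroup.centralizer ({t} : Set G)))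
    let c := Subgroup.normalizerMonoidHom (P' : Subgroup (Subgroup.centralizer ({t} : Set G)))
    have hker : ¬ 2 ∣ c.ker.index := by
      refine fun h => P'.not_dvd_index (h.trans ?_)
      have hle : ((P' : Subgroup _).subgroupOf Nn) ≤ c.ker := by
        intro z hz
        rw [Subgroup.normalizerMonoidHom_ker]
        exact Subgroup.mem_subgroupOf.2 (Subgroup.le_centralizer _ hz)
      exact (Subgroup.index_dvd_of_le hle).trans (Subgroup.relIndex_dvd_index_of_le Subgroup.le_normalizer)
    have h2 : (⟨n, hn⟩ : Nn) * ⟨n, hn⟩ ∈ c.ker := by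
      rw [Subgroup.normalizerMonoidHom_ker]
      refine Subgroup.mem_subgroupOf.2 (Subgroup.mem_centralizer_iff.2 fun y hy => ?_)
      have := hsq y hy
      exact (mul_inv_eq_iff_eq_mul.1 this).symm
    have hq : ((⟨n, hn⟩ : Nn) : Nn ⧸ c.ker) = 1 := by
      have e1 : ((⟨n, hn⟩ : Nn) : Nn ⧸ c.ker) ^ 2 = 1 := by
        rw [pow_two, ← QuotientGroup.mk_mul]; exact (QuotientGroup.eq_one_iff _).2 h2
      have e2 : ((⟨n, hn⟩ : Nn) : Nn ⧸ c.ker) ^ c.ker.index = 1 := pow_card_eq_one'
      have e3 := pow_gcd_eq_one.mpr ⟨e1, e2⟩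
      rwa [((Nat.Prime.coprime_iff_not_dvd Nat.prime_two).2 hker).gcd_eq_one, pow_one] at e3
    rw [QuotientGroup.eq_one_iff, Subgroup.normalizerMonoidHom_ker] at hq
    exact Subgroup.mem_centralizer_iff.1 (Subgroup.mem_subgroupOf.1 hq) x hx
  refine ⟨(MonoidHom.transferSylow P' hburn).ker, MonoidHom.normal_ker _, ?_, ?_⟩
  · have h := MonoidHom.ker_transferSylow_isComplement' P' hburn
    rw [← h.index_eq_card]
    exact P'.not_dvd_index
  · exact (MonoidHom.ker_transferSylow_isComplement' P' hburn).symm.index_eq_card.trans hcard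

end Cfsg.Agent.H38
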