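import Cfsg.Agent.H40.SecondMain
import Cfsg.Agent.H41.InducedCentral
import Cfsg.Agent.H42.Arith
import Cfsg.Agent.S0925

/-! Columns of the principal block at `p`-elements. -/

set_option autoImplicit false
set_option linter.unusedSectionVars false

open scoped ComplexConjugate

namespace Cfsg.Agent.H38

open Cfsg.Agent.H40

variable {G : Type*} [Group G] [Fintype G] {p : ℕ} [Fact p.Prime] {M : Ideal Cfsg.AlgInt}
  [M.IsMaximal]

/-- The blocks of the centraliser of a `p`-element inducing the principal block: only the principal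
one. -/
theorem inducingSet_principal (hM : Cfsg.IsPModular p M) {x : G} (hx : ∃ j, orderOf x = p ^ j) :
    inducingSet M x (Cfsg.principalBlock M G) =
      Cfsg.principalBlock M ↥(Subgroup.centralizer ({x} : Set G)) := by
  haveI := Fintype.ofFinite (Subgroup.centralizer ({x} : Set G))
  have hP := Cfsg.Agent.H41.isPBlock_principalBlock (M := M) (G := Subgroup.centralizer ({x} : Set G))
  ext ψ
  have hd : Cfsg.InducedBlockDefined M _
      (Cfsg.blockOf M (ψ : Subgroup.centralizer ({x} : Set G) → ℂ)) :=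
    exists_isInducedBlock_centralizer hM hx (Cfsg.Agent.H41.isPBlock_blockOf ψ)
  show Cfsg.IsInducedBlock M _ _ _ ↔ _
  rw [Cfsg.Agent.H41.isInducedBlock_principal_iff _ hM hd]
  constructor
  · intro h; exact h ▸ Cfsg.Agent.H41.mem_blockOf_self ψ
  · intro h
    exact Cfsg.Agent.H41.block_eq_of_mem_of_mem (Cfsg.Agent.H41.isPBlock_blockOf ψ) hP
      (Cfsg.Agent.H41.mem_blockOf_self ψ) h

open scoped Classical in
/-- The norm of a column of the principal block at a `p`-element. -/
theorem sum_principal_norm (hM : Cfsg.IsPModular p M) {x : G} (hx : ∃ j, orderOf x = p ^ j) :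
    ∑ χ ∈ Finset.univ.filter (· ∈ Cfsg.principalBlock M G),
        (χ : G → ℂ) x * conj ((χ : G → ℂ) x) =
      ((∑ᶠ ψ ∈ Cfsg.principalBlock M ↥(Subgroup.centralizer ({x} : Set G)),
        Cfsg.charDegree (ψ : ↥(Subgroup.centralizer ({x} : Set G)) → ℂ) ^ 2 : ℕ) : ℂ) := by
  haveI := Fintype.ofFinite (Subgroup.centralizer ({x} : Set G))
  let x' : Subgroup.centralizer ({x} : Set G) := ⟨x, by simp [Subgroup.mem_centralizer_singleton_iff]⟩
  obtain ⟨j, hj⟩ := id hx
  have hg : Cfsg.IsPPart p (x' : G) x :=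
    ⟨1, mul_one _, Commute.one_right _, ⟨j, hj⟩, by simpa using (Fact.out : p.Prime).not_dvd_one⟩
  set A := Cfsg.principalBlock M ↥(Subgroup.centralizer ({x} : Set G)) with hA
  have hAB : Cfsg.IsPBlock M A := Cfsg.Agent.H41.isPBlock_principalBlock
  have key : ∀ χ : Cfsg.IrrCharacter G, (if χ ∈ Cfsg.principalBlock M G then
      (χ : G → ℂ) x * conj ((χ : G → ℂ) x) else 0) =
      ∑ k : Subgroup.centralizer ({x} : Set G),
        Cfsg.blockCoeff A k * ((χ : G → ℂ) ((k : G) * x) * conj ((χ : G → ℂ) x)) := by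
    intro χ
    have h := sum_inducingSet_mul hM hx Cfsg.Agent.H41.isPBlock_principalBlock (g := x') hg χ
    rw [inducingSet_principal hM hx] at h
    simp only [← mul_assoc, ← Finset.sum_mul]
    rw [h]
    split <;> simp [x']
  rw [Finset.sum_filter, Finset.sum_congr rfl fun χ _ => key χ, Finset.sum_comm,
    Finset.sum_eq_single 1]
  · rw [← Finset.mul_sum, Subgroup.coe_one, one_mul, Cfsg.Agent.H26.column_orthogonality,
      Cfsg.Agent.H26.classIndicator, if_pos (IsConj.refl x), mul_one, blockCoeff_eq_sum,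
      mul_comm, ← mul_assoc, mul_inv_cancel₀ (Nat.cast_ne_zero.2 Nat.card_pos.ne'), one_mul,
      finsum_mem_eq_finite_toFinset_sum _ (Set.toFinite _), Nat.cast_sum]
    refine Finset.sum_congr (by ext; simp) fun ψ _ => ?_
    rw [← H26.irr_inv, inv_one, H42.irr_one_eq, Nat.cast_pow, sq]
  · intro k _ hk
    by_cases hreg : p ∣ orderOf k
    · rw [Finset.sum_eq_zero]
      intro χ _
      rw [blockCoeff_eq_zero_of_singular hM hAB hreg, zero_mul]
    · rw [← Finset.mul_sum, Cfsg.Agent.H26.column_orthogonality, Cfsg.Agent.H26.classIndicator,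
        if_neg, mul_zero, mul_zero]
      intro hc
      apply hk
      have hkx : Commute x (k : G) := (Subgroup.mem_centralizer_singleton_iff.1 k.2).symm
      rw [← hkx.eq] at hc
      obtain ⟨c, hc⟩ := isConj_iff.1 hc
      rw [← Subgroup.orderOf_coe] at hreg
      have h1 := isPPart_conj c (isPPart_mul hkx hj hreg)
      rw [hc] at h1
      have hcx : c * x * c⁻¹ = x := isPPart_unique h1 hg
      apply Subtype.ext
      rw [Subgroup.coe_one]
      have h2 : c * (k : G) * c⁻¹ = 1 := by
        have e : (c * x * c⁻¹) * (c * (k : G) * c⁻¹) = x := (show _ = c * (x * (k : G)) * c⁻¹ by group).trans hc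
        rwa [hcx, mul_eq_left] at e
      exact conj_eq_one_iff.1 h2
  · simp

end Cfsg.Agent.H38
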