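import Mathlib
import Cfsg.Agent.H25.CharInd
import Cfsg.Agent.H26.CharFS
import Cfsg.Agent.H68.CharTools
import Cfsg.Agent.H68.RankOne

/-! Inducing linear characters from a subgroup `H` with two double cosets. -/

set_option autoImplicit false

namespace Cfsg.Agent.H38.TwoTrans

open scoped ComplexConjugate

variable {G : Type*} [Group G]

/-- `H` has exactly one double coset besides itself. -/
def Two (H : Subgroup G) : Prop :=
  ∀ x y : G, x ∉ H → y ∉ H → ∃ k ∈ H, y⁻¹ * (k * x) ∈ H

/-- The linear function of a homomorphism is invariant on `H ∩ x H x⁻¹`. -/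
def Agree (H : Subgroup G) (f : H →* ℂˣ) (x : G) : Prop :=
  ∀ (k : H) (hk : x⁻¹ * (k : G) * x ∈ H), f ⟨_, hk⟩ = f k

variable {H : Subgroup G}

/-- Agreement does not depend on the representative of the double coset. -/
theorem agree_congr (f : H →* ℂˣ) {x : G} (a b : H) (hA : Agree H f x) :
    Agree H f ((a : G) * x * (b : G)) := by
  intro k hk
  let k' : H := a⁻¹ * k * a
  have e1 : ((a : G) * x * (b : G))⁻¹ * (k : G) * ((a : G) * x * (b : G)) =
      (b : G)⁻¹ * (x⁻¹ * (k' : G) * x) * (b : G) := by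
    simp only [k', Subgroup.coe_mul, Subgroup.coe_inv]
    group
  have hk' : x⁻¹ * (k' : G) * x ∈ H := by
    have h1 : (b : G) * (((a : G) * x * (b : G))⁻¹ * (k : G) * ((a : G) * x * (b : G))) * (b : G)⁻¹ ∈ H :=
      H.mul_mem (H.mul_mem b.2 hk) (H.inv_mem b.2)
    rw [e1] at h1
    simpa [mul_assoc] using h1
  have e2 : (⟨_, hk⟩ : H) = b⁻¹ * ⟨_, hk'⟩ * b := Subtype.ext (by
    push_cast
    exact e1)
  rw [e2, map_mul, map_mul, map_inv, hA k' hk']
  simp only [k', map_mul, map_inv]
  apply Units.ext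
  push_cast
  field_simp

/-- Agreement holds everywhere outside `H` once it holds at one place. -/
theorem agree_all (h2 : Two H) (f : H →* ℂˣ) {x y : G} (hx : x ∉ H) (hy : y ∉ H)
    (hA : Agree H f x) : Agree H f y := by
  obtain ⟨k, hk, hm⟩ := h2 x y hx hy
  have := agree_congr f ⟨k, hk⟩ ⟨_, H.inv_mem hm⟩ hA
  rwa [show (k : G) * x * (y⁻¹ * (k * x))⁻¹ = y by group] at this

section Counting

variable [Finite G]

/-- The subgroup `H ∩ x H x⁻¹` inside `H`. -/
def inter (H : Subgroup G) (x : G) : Subgroup H :=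
  MulAction.stabilizer H (QuotientGroup.mk x : G ⧸ H)

omit [Finite G] in
theorem mem_inter {x : G} {k : H} : k ∈ inter H x ↔ x⁻¹ * (k : G) * x ∈ H := by
  rw [inter, MulAction.mem_stabilizer_iff]
  change (QuotientGroup.mk ((k : G) * x) : G ⧸ H) = QuotientGroup.mk x ↔ _
  rw [eq_comm, QuotientGroup.eq, mul_assoc]

/-- The orbit of a coset different from `H` is everything else. -/
theorem card_inter_mul (h2 : Two H) {x : G} (hx : x ∉ H) :
    (H.index - 1) * Nat.card (inter H x) = Nat.card H := by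
  classical
  have horb : MulAction.orbit H (QuotientGroup.mk x : G ⧸ H) =
      ({QuotientGroup.mk 1} : Set (G ⧸ H))ᶜ := by
    ext q
    induction q using QuotientGroup.induction_on with
    | H y =>
      have hy1 : (QuotientGroup.mk y : G ⧸ H) ≠ QuotientGroup.mk 1 ↔ y ∉ H := by
        rw [ne_eq, eq_comm, QuotientGroup.eq]; simp
      rw [Set.mem_compl_iff, Set.mem_singleton_iff, ← ne_eq, hy1]
      constructor
      · rintro ⟨k, hk⟩ hy
        change (QuotientGroup.mk ((k : G) * x) : G ⧸ H) = QuotientGroup.mk y at hk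
        have h := QuotientGroup.eq.mp hk
        apply hx
        have h1 : (k : G) * x ∈ H := by
          have := H.mul_mem hy (H.inv_mem h)
          simpa [mul_assoc] using this
        simpa using H.mul_mem (H.inv_mem k.2) h1
      · intro hy
        obtain ⟨k, hk, hm⟩ := h2 x y hx hy
        refine ⟨⟨k, hk⟩, ?_⟩
        change (QuotientGroup.mk (k * x) : G ⧸ H) = QuotientGroup.mk y
        rw [QuotientGroup.eq]
        simpa [mul_assoc] using H.inv_mem hm
  have h := MulAction.index_stabilizer H (QuotientGroup.mk x : G ⧸ H)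
  rw [horb, Set.ncard_compl, Set.ncard_singleton, ← Subgroup.index] at h
  rw [inter, ← h, Subgroup.index_mul_card]

end Counting

variable [Fintype G]

open scoped Classical in
/-- The pairing of the induced function with a linear function on `H`. -/
theorem classInner_indFun_restrict [Fintype H] (f : H →* ℂˣ) (φ : H → ℂ) :
    Cfsg.classInner (fun h : H => Cfsg.indFun H (fun h => (f h : ℂ)) h) φ =
      (Nat.card H : ℂ)⁻¹ ^ 2 * ∑ x : G, ∑ k : H,
        if hk : x⁻¹ * (k : G) * x ∈ H then (f ⟨_, hk⟩ : ℂ) * conj (φ k) else 0 := by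
  simp only [Cfsg.classInner, Cfsg.indFun]
  rw [Finset.sum_comm (s := (Finset.univ : Finset G)), Finset.mul_sum, Finset.mul_sum]
  refine Finset.sum_congr rfl fun k _ => ?_
  rw [Finset.mul_sum, Finset.sum_mul, Finset.mul_sum, Finset.mul_sum]
  refine Finset.sum_congr rfl fun x _ => ?_
  split_ifs with hk
  · rw [H25.extendByZero_of_mem H _ hk]; ring
  · rw [H25.extendByZero_of_notMem H _ hk]; ring

/-- The norm of an induced linear character when there are two double cosets. -/
theorem norm_indFun (h2 : Two H) (f : H →* ℂˣ) {x₀ : G} (hx₀ : x₀ ∉ H) :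
    (Agree H f x₀ → Cfsg.classInner (Cfsg.indFun H fun h => (f h : ℂ))
      (Cfsg.indFun H fun h => (f h : ℂ)) = 2) ∧
    (¬ Agree H f x₀ → Cfsg.classInner (Cfsg.indFun H fun h => (f h : ℂ))
      (Cfsg.indFun H fun h => (f h : ℂ)) = 1) := by
  classical
  rw [H68.classInner_indFun_right H (H68.isClassFunction_indFun H _), classInner_indFun_restrict]
  set n : ℂ := (Nat.card H : ℂ) with hn
  have hn0 : n ≠ 0 := Nat.cast_ne_zero.mpr Nat.card_pos.ne'
  let T : G → ℂ := fun x => ∑ k : H,
    if hk : x⁻¹ * (k : G) * x ∈ H then (f ⟨_, hk⟩ : ℂ) * conj (f k : ℂ) else 0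
  have hunit : ∀ k : H, (f k : ℂ) * conj (f k : ℂ) = 1 := by
    intro k
    have h : (f k : ℂ) ^ Nat.card H = 1 := by
      rw [← Units.val_pow_eq_pow_val, ← map_pow, pow_card_eq_one', map_one, Units.val_one]
    rw [Complex.mul_conj', Complex.norm_eq_one_of_pow_eq_one h Nat.card_pos.ne']
    simp
  have hin : ∀ x ∈ H, T x = n := by
    intro x hx
    have : ∀ k : H, (if hk : x⁻¹ * (k : G) * x ∈ H then (f ⟨_, hk⟩ : ℂ) * conj (f k : ℂ) else 0) = 1 := by
      intro k
      rw [dif_pos (H.mul_mem (H.mul_mem (H.inv_mem hx) k.2) hx),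
        show (⟨x⁻¹ * (k : G) * x, _⟩ : H) = (⟨x, hx⟩ : H)⁻¹ * k * ⟨x, hx⟩ from Subtype.ext rfl,
        map_mul, map_mul, map_inv, mul_comm (f ⟨x, hx⟩)⁻¹, inv_mul_cancel_right]
      exact hunit k
    simp only [T, this, Finset.sum_const, Finset.card_univ, nsmul_eq_mul, mul_one, hn,
      Nat.card_eq_fintype_card]
  have hagree : ∀ x, Agree H f x → T x = (Nat.card (inter H x) : ℂ) := by
    intro x hA
    have : ∀ k : H, (if hk : x⁻¹ * (k : G) * x ∈ H then (f ⟨_, hk⟩ : ℂ) * conj (f k : ℂ) else 0) =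
        if k ∈ inter H x then 1 else 0 := by
      intro k
      by_cases hk : x⁻¹ * (k : G) * x ∈ H
      · rw [dif_pos hk, if_pos (mem_inter.mpr hk), hA k hk, hunit]
      · rw [dif_neg hk, if_neg fun h => hk (mem_inter.mp h)]
    simp only [T, this, Finset.sum_boole]
    rw [Nat.card_eq_fintype_card, Fintype.card_subtype]
  have hnot : ∀ x, ¬ Agree H f x → T x = 0 := by
    intro x hA
    simp only [Agree, not_forall] at hA
    obtain ⟨k₀, hk₀, hne⟩ := hA
    set c : ℂ := (f ⟨_, hk₀⟩ : ℂ) * conj (f k₀ : ℂ) with hc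
    have hc1 : c ≠ 1 := by
      intro h
      apply hne
      apply Units.ext
      calc (f ⟨_, hk₀⟩ : ℂ) = (f ⟨_, hk₀⟩ : ℂ) * (conj (f k₀ : ℂ) * (f k₀ : ℂ)) := by
            rw [mul_comm (conj _), hunit, mul_one]
        _ = _ := by rw [← mul_assoc, ← hc, h, one_mul]
    let t : H → ℂ := fun k =>
      if hk : x⁻¹ * (k : G) * x ∈ H then (f ⟨_, hk⟩ : ℂ) * conj (f k : ℂ) else 0
    have hterm : ∀ k : H, c * t k = t (k₀ * k) := by
      intro k
      have e : x⁻¹ * ((k₀ * k : H) : G) * x = (x⁻¹ * (k₀ : G) * x) * (x⁻¹ * (k : G) * x) := by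
        push_cast; group
      by_cases hk : x⁻¹ * (k : G) * x ∈ H
      · have hk2 : x⁻¹ * ((k₀ * k : H) : G) * x ∈ H := e ▸ H.mul_mem hk₀ hk
        simp only [t]
        rw [dif_pos hk, dif_pos hk2,
          show (⟨_, hk2⟩ : H) = ⟨_, hk₀⟩ * ⟨_, hk⟩ from Subtype.ext e, map_mul, map_mul,
          Units.val_mul, Units.val_mul, map_mul, hc]
        ring
      · have hk2 : ¬ x⁻¹ * ((k₀ * k : H) : G) * x ∈ H := by
          intro h
          rw [e] at h
          exact hk ((H.mul_mem_cancel_left hk₀).mp h)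
        simp only [t]
        rw [dif_neg hk, dif_neg hk2, mul_zero]
    have hmul : c * T x = T x := by
      show c * ∑ k, t k = ∑ k, t k
      rw [Finset.mul_sum]
      exact Fintype.sum_equiv (Equiv.mulLeft k₀) _ t hterm
    by_contra h0
    exact hc1 (mul_right_cancel₀ h0 (hmul.trans (one_mul _).symm))
  have hcardout : ((Finset.univ.filter fun x : G => x ∉ H).card : ℂ) = n * ((H.index - 1 : ℕ) : ℂ) := by
    have h1 : (Finset.univ.filter fun x : G => x ∉ H).card + Nat.card H = Nat.card G := by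
      rw [Nat.card_eq_fintype_card, Fintype.card_subtype, Nat.card_eq_fintype_card, add_comm,
        Finset.card_filter_add_card_filter_not, Finset.card_univ]
    have h2 := H.card_mul_index
    have h3 : (Finset.univ.filter fun x : G => x ∉ H).card = Nat.card H * (H.index - 1) := by
      rw [Nat.mul_sub_one]; omega
    rw [h3, Nat.cast_mul]
  have hsum : ∑ x : G, T x = n * n + ∑ x ∈ Finset.univ.filter (fun x : G => x ∉ H), T x := by
    rw [← Finset.sum_filter_add_sum_filter_not Finset.univ (fun x : G => x ∈ H)]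
    congr 1
    rw [Finset.sum_congr rfl fun x hx => hin x (Finset.mem_filter.mp hx).2, Finset.sum_const,
      nsmul_eq_mul]
    congr 1
    rw [hn, Nat.card_eq_fintype_card, Fintype.card_subtype]
  change (_ → n⁻¹ ^ 2 * (∑ x, T x) = 2) ∧ (_ → n⁻¹ ^ 2 * (∑ x, T x) = 1)
  refine ⟨fun hA => ?_, fun hA => ?_⟩
  · have hout : ∀ x ∈ Finset.univ.filter (fun x : G => x ∉ H),
        ((H.index - 1 : ℕ) : ℂ) * T x = n := by
      intro x hx
      rw [hagree x (agree_all h2 f hx₀ (Finset.mem_filter.mp hx).2 hA), ← Nat.cast_mul,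
        card_inter_mul h2 (Finset.mem_filter.mp hx).2]
    have hidx : ((H.index - 1 : ℕ) : ℂ) ≠ 0 := by
      intro h0
      have := hout x₀ (Finset.mem_filter.mpr ⟨Finset.mem_univ _, hx₀⟩)
      rw [h0, zero_mul] at this
      exact hn0 this.symm
    rw [hsum, Finset.sum_congr rfl fun x hx => show T x = n / ((H.index - 1 : ℕ) : ℂ) by
      rw [eq_div_iff hidx, mul_comm]; exact hout x hx, Finset.sum_const, nsmul_eq_mul, hcardout]
    field_simp
    ring
  · rw [hsum, Finset.sum_eq_zero fun x hx => hnot x fun h =>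
      hA (agree_all h2 f (Finset.mem_filter.mp hx).2 hx₀ h)]
    field_simp
    ring

/-- A norm two induced character splits into two constituents, each containing the inducing one. -/
theorem exists_split [Fintype H] (h2 : Two H) (f : H →* ℂˣ) {x₀ : G} (hx₀ : x₀ ∉ H)
    (hA : Agree H f x₀) :
    ∃ χ₁ χ₂ : Cfsg.IrrCharacter G, χ₁ ≠ χ₂ ∧
      (Cfsg.indFun H fun h => (f h : ℂ)) = χ₁.1 + χ₂.1 ∧
      Cfsg.classInner (fun h : H => χ₁.1 h) (fun h => (f h : ℂ)) = 1 ∧
      Cfsg.classInner (fun h : H => χ₂.1 h) (fun h => (f h : ℂ)) = 1 := by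
  classical
  obtain ⟨χ₁, χ₂, hne, he⟩ := H68.exists_add_of_norm_two (H68.isCharacter_indFun_hom H f)
    ((norm_indFun h2 f hx₀).1 hA)
  have hcl : ∀ χ : Cfsg.IrrCharacter G, Cfsg.classInner (fun h : H => χ.1 h) (fun h => (f h : ℂ)) =
      Cfsg.classInner χ.1 (Cfsg.indFun H fun h => (f h : ℂ)) := fun χ =>
    (H68.classInner_indFun_right H (fun g h => H26.irr_conj χ g h) _).symm
  refine ⟨χ₁, χ₂, hne, he, ?_, ?_⟩
  · rw [hcl, he, H26.classInner_add_right, H26.classInner_irr, H26.classInner_irr, if_pos rfl,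
      if_neg hne, add_zero]
  · rw [hcl, he, H26.classInner_add_right, H26.classInner_irr, H26.classInner_irr, if_pos rfl,
      if_neg (Ne.symm hne), zero_add]

/-- A subgroup of order prime to the point stabilisers sees the induced character through one
coset: the value at its non-identity elements is the value of the linear character. -/
theorem indFun_eq_of_coprime (f : H →* ℂˣ) {u : H}
    (hu : ∀ x : G, x ∉ H → (Nat.card (inter H x)).Coprime (orderOf u)) (hu1 : u ≠ 1) :
    Cfsg.indFun H (fun h => (f h : ℂ)) (u : G) = (f u : ℂ) := by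
  classical
  have hout : ∀ x : G, x ∉ H → x⁻¹ * (u : G) * x ∉ H := by
    intro x hx hm
    have hd : orderOf u ∣ Nat.card (inter H x) := by
      have := orderOf_dvd_natCard (⟨u, mem_inter.mpr hm⟩ : inter H x)
      rwa [← Subgroup.orderOf_coe] at this
    exact hu1 (orderOf_eq_one_iff.mp (Nat.eq_one_of_dvd_coprimes (hu x hx) hd dvd_rfl))
  simp only [Cfsg.indFun]
  rw [← Finset.sum_filter_add_sum_filter_not Finset.univ (fun x : G => x ∈ H),
    Finset.sum_eq_zero (s := Finset.univ.filter fun x : G => ¬ x ∈ H) fun x hx =>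
      H25.extendByZero_of_notMem H _ (hout x (Finset.mem_filter.mp hx).2), add_zero,
    Finset.sum_congr rfl fun x hx => show Cfsg.extendByZero H (fun h => (f h : ℂ))
      (x⁻¹ * (u : G) * x) = (f u : ℂ) by
      have hxH := (Finset.mem_filter.mp hx).2
      rw [H25.extendByZero_of_mem H _ (H.mul_mem (H.mul_mem (H.inv_mem hxH) u.2) hxH),
        show (⟨x⁻¹ * (u : G) * x, _⟩ : H) = (⟨x, hxH⟩ : H)⁻¹ * u * ⟨x, hxH⟩ from Subtype.ext rfl,
        map_mul, map_mul, map_inv, mul_comm (f ⟨x, hxH⟩)⁻¹, inv_mul_cancel_right],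
    Finset.sum_const, nsmul_eq_mul, ← mul_assoc]
  rw [show ((Finset.univ.filter fun x : G => x ∈ H).card : ℂ) = (Nat.card H : ℂ) by
    rw [Nat.card_eq_fintype_card, Fintype.card_subtype], inv_mul_cancel₀
    (Nat.cast_ne_zero.mpr Nat.card_pos.ne'), one_mul]

end Cfsg.Agent.H38.TwoTrans
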